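import Cfsg.Agent.H7.NBpCount
import Cfsg.Agent.ClassicalGeometry.PSLTorus
import Cfsg.Agent.ClassicalGeometry.NonsplitTorus
import Mathlib
import Cfsg.Agent.H526.ObComp
import Cfsg.Agent.S0256
import Cfsg.Agent.Lib.FastPerm
import Cfsg.Agent.GenExc.Data
import Cfsg.Agent.H631.ExcChev
import Cfsg.Agent.H622.Levi.NonSwap
import Cfsg.Agent.Mrg.Omega.TwoF.E7Odd_mg_m3
import Cfsg.Agent.Lib.PackAll
import Cfsg.Agent.FastGrp
import Cfsg.Agent.Prune
set_option linter.all false

-- part: H102/NbPslTwo_mg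
section
set_option linter.all false
open scoped Cfsg.Agent.FastGrp

-- part: H102/NbPslTwo
section
/-!
# `PSL_2(q)`, `q > 3` odd, has more than one 2-block (helper102, for S5004, S5007)

Let `r` be an odd prime divisor of `(q + 1) / 2` if `q = 1 mod 4`, of `(q - 1) / 2` if `q = 3 mod 4`, `w` an element
of order `r` inverted by the involution `t`.  The elements `k` with `k ^ 2 = 1`, `k t = t k`, `orderOf (k w) = r` are
permuted by the involution `n` of `PGL_2(q)` centralizing `w` and `t`, and `k = 1` is the only one fixed by it.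
-/

set_option autoImplicit false
set_option linter.unusedSectionVars false

open Matrix
open scoped MatrixGroups

namespace Cfsg.Agent.H102.NbPslTwo

open Cfsg.Agent.ClassicalGeometry.PSLTorus Cfsg.Agent.H526.OB

variable {F : Type*} [Field F]

/-- matrices of degree two commuting with a non-scalar matrix -/
theorem comm_two {a y : Matrix (Fin 2) (Fin 2) F} (hy : ∀ c : F, y ≠ c • (1 : Matrix (Fin 2) (Fin 2) F))
    (h : a * y = y * a) : ∃ α β : F, a = α • y + β • (1 : Matrix (Fin 2) (Fin 2) F) := by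
  have h00 := congrFun (congrFun h 0) 0
  have h01 := congrFun (congrFun h 0) 1
  have h10 := congrFun (congrFun h 1) 0
  simp only [Matrix.mul_apply, Fin.sum_univ_two] at h00 h01 h10
  have hne : y 0 1 ≠ 0 ∨ y 1 0 ≠ 0 ∨ y 0 0 - y 1 1 ≠ 0 := by
    by_contra hcon
    push Not at hcon
    obtain ⟨h1, h2, h3⟩ := hcon
    apply hy (y 0 0)
    ext i j
    fin_cases i <;> fin_cases j
    · simp
    · simpa using h1
    · simpa using h2
    · simpa using (sub_eq_zero.1 h3).symm
  have key : ∃ α : F, a 0 1 = α * y 0 1 ∧ a 1 0 = α * y 1 0 ∧ a 0 0 - a 1 1 = α * (y 0 0 - y 1 1) := by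
    rcases hne with h | h | h
    · exact ⟨a 0 1 / y 0 1, by field_simp, by field_simp; linear_combination -h00, by field_simp; linear_combination h01⟩
    · exact ⟨a 1 0 / y 1 0, by field_simp; linear_combination h00, by field_simp, by field_simp; linear_combination -h10⟩
    · refine ⟨(a 0 0 - a 1 1) / (y 0 0 - y 1 1), ?_, ?_, ?_⟩ <;> rw [div_mul_eq_mul_div, eq_div_iff h]
      · linear_combination -h01
      · linear_combination h10
  obtain ⟨α, h1, h2, h3⟩ := key
  refine ⟨α, a 0 0 - α * y 0 0, ?_⟩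
  ext i j
  rw [Matrix.add_apply, Matrix.smul_apply, Matrix.smul_apply, smul_eq_mul, smul_eq_mul]
  fin_cases i <;> fin_cases j
  · simp
  · simpa using h1
  · simpa using h2
  · simp only [Fin.mk_one, Fin.isValue, Matrix.one_apply_eq, mul_one]
    linear_combination -h3

section Fin

variable [Fintype F]

/-- `Frobenius` on `F[K]`, `K² = -1` -/
theorem pow_card (K : Matrix (Fin 2) (Fin 2) F) (hK : K * K = -1) (hq : Odd (Fintype.card F)) (α β : F) :
    (α • K + β • (1 : Matrix (Fin 2) (Fin 2) F)) ^ Fintype.card F =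
      ((-1) ^ ((Fintype.card F - 1) / 2) * α) • K + β • (1 : Matrix (Fin 2) (Fin 2) F) := by
  obtain ⟨p, hp⟩ := CharP.exists F
  have hpp : Fact p.Prime := ⟨CharP.char_is_prime F p⟩
  obtain ⟨n, -, hn⟩ := FiniteField.card F p
  have hc : Commute (α • K) (β • (1 : Matrix (Fin 2) (Fin 2) F)) :=
    ((Commute.one_right K).smul_left α).smul_right β
  have h1 : (α • K + β • (1 : Matrix (Fin 2) (Fin 2) F)) ^ Fintype.card F =
      (α • K) ^ Fintype.card F + (β • (1 : Matrix (Fin 2) (Fin 2) F)) ^ Fintype.card F := by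
    rw [hn]
    exact add_pow_char_pow_of_commute p n hc
  have h2 : K ^ Fintype.card F = ((-1 : F) ^ ((Fintype.card F - 1) / 2)) • K := by
    obtain ⟨k, hk⟩ := hq
    rw [hk, show (2 * k + 1 - 1) / 2 = k by omega, pow_succ, pow_mul, sq, hK]
    rcases Nat.even_or_odd k with h | h
    · rw [h.neg_one_pow, h.neg_one_pow, one_mul, one_smul]
    · rw [h.neg_one_pow, h.neg_one_pow, neg_one_mul, neg_one_smul]
  rw [h1, smul_pow, smul_pow, one_pow, FiniteField.pow_card, FiniteField.pow_card, h2, smul_smul, mul_comm]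

/-- the arithmetical condition on `r` -/
def Cop (F : Type*) [Fintype F] (r : ℕ) : Prop :=
  ¬ r ∣ Fintype.card F ∧ (Fintype.card F % 4 = 1 → ¬ r ∣ Fintype.card F - 1) ∧
    (Fintype.card F % 4 = 3 → ¬ r ∣ Fintype.card F + 1)

theorem two_ne (hq : Odd (Fintype.card F)) : (2 : F) ≠ 0 := by
  intro h
  obtain ⟨p, hp⟩ := CharP.exists F
  have hpp : p.Prime := CharP.char_is_prime F p
  obtain ⟨n, -, hn⟩ := FiniteField.card F p
  have h1 : p ∣ 2 := (CharP.cast_eq_zero_iff F p 2).1 (by exact_mod_cast h)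
  have h2 : p = 2 := (Nat.prime_dvd_prime_iff_eq hpp Nat.prime_two).1 h1
  rw [hn, h2] at hq
  exact (Nat.not_even_iff_odd.2 hq) (Nat.even_pow.2 ⟨even_two, n.2.ne'⟩)

/-- elements of order `r` do not commute with `K`, `K² = -1` -/
theorem eq_one_of_commute (hq : Odd (Fintype.card F)) {r : ℕ} (hr : r.Prime) (hr2 : r ≠ 2) (hco : Cop F r)
    (K : Matrix (Fin 2) (Fin 2) F) (hK : K * K = -1) (hKs : ∀ c : F, K ≠ c • (1 : Matrix (Fin 2) (Fin 2) F))
    (X : SL(2, F)) (hX : X ^ r = 1) (hc : (X : Matrix (Fin 2) (Fin 2) F) * K = K * X) : X = 1 := by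
  obtain ⟨α, β, hαβ⟩ := comm_two hKs hc
  have h1 := pow_card K hK hq α β
  rw [← hαβ] at h1
  have key : ∀ N : ℕ, ¬ r ∣ N → X ^ N = 1 → X = 1 := by
    intro N hN h
    have h2 : orderOf X ∣ Nat.gcd r N := Nat.dvd_gcd (orderOf_dvd_of_pow_eq_one hX) (orderOf_dvd_of_pow_eq_one h)
    rw [(Nat.Prime.coprime_iff_not_dvd hr).2 hN] at h2
    exact orderOf_eq_one_iff.1 (Nat.dvd_one.1 h2)
  have hq1 : 1 < Fintype.card F := Fintype.one_lt_card
  rcases (show Fintype.card F % 4 = 1 ∨ Fintype.card F % 4 = 3 by obtain ⟨k, hk⟩ := hq; omega) with h4 | h4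
  · have h2 : Even ((Fintype.card F - 1) / 2) := ⟨(Fintype.card F - 1) / 4, by omega⟩
    rw [h2.neg_one_pow, one_mul, ← hαβ] at h1
    refine key (Fintype.card F - 1) (hco.2.1 h4) ?_
    have h3 : X ^ Fintype.card F = X := Subtype.ext (by rw [Matrix.SpecialLinearGroup.coe_pow]; exact h1)
    have h5 : X ^ (Fintype.card F - 1) * X = 1 * X := by
      rw [← pow_succ, Nat.sub_add_cancel hq1.le, h3, one_mul]
    exact mul_right_cancel h5
  · have h2 : Odd ((Fintype.card F - 1) / 2) := ⟨(Fintype.card F - 3) / 4, by omega⟩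
    rw [h2.neg_one_pow, neg_one_mul, neg_smul] at h1
    have h3 : ((X ^ (Fintype.card F + 1) : SL(2, F)) : Matrix (Fin 2) (Fin 2) F) =
        (α ^ 2 + β ^ 2) • (1 : Matrix (Fin 2) (Fin 2) F) := by
      rw [Matrix.SpecialLinearGroup.coe_pow, pow_succ, h1, hαβ]
      simp only [add_mul, mul_add, neg_mul, smul_mul_smul_comm, hK, mul_one, one_mul]
      rw [smul_neg, neg_neg, add_smul, sq, sq, mul_comm α β]
      abel
    have h4' : (α ^ 2 + β ^ 2) ^ 2 = 1 := by
      have h5 := (X ^ (Fintype.card F + 1)).det_coe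
      rw [h3, Matrix.det_smul, Matrix.det_one, mul_one, Fintype.card_fin] at h5
      exact h5
    refine key ((Fintype.card F + 1) * 2) ?_ ?_
    · intro h
      rcases hr.dvd_mul.1 h with h | h
      · exact hco.2.2 h4 h
      · exact hr2 ((Nat.prime_dvd_prime_iff_eq hr Nat.prime_two).1 h)
    · apply Subtype.ext
      rw [pow_mul, Matrix.SpecialLinearGroup.coe_pow, h3, smul_pow, one_pow, h4', one_smul]
      rfl

/-- the trace zero part of `W` -/
def nn (W : SL(2, F)) : Matrix (Fin 2) (Fin 2) F := (W : Matrix (Fin 2) (Fin 2) F) - (W⁻¹ : SL(2, F))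

/-- `4 - (trace W)²` -/
def nu (W : SL(2, F)) : F := 4 - (W 0 0 + W 1 1) ^ 2

theorem det_eq (W : SL(2, F)) : W 0 0 * W 1 1 - W 0 1 * W 1 0 = 1 := by
  have := W.det_coe
  rwa [Matrix.det_fin_two] at this

theorem nn_eq (W : SL(2, F)) : nn W = !![W 0 0 - W 1 1, 2 * W 0 1; 2 * W 1 0, W 1 1 - W 0 0] := by
  rw [nn, Matrix.SpecialLinearGroup.coe_inv, Matrix.adjugate_fin_two]
  ext i j
  fin_cases i <;> fin_cases j <;> simp <;> ring

theorem nn_mul (W : SL(2, F)) : nn W * nn W = (-nu W) • (1 : Matrix (Fin 2) (Fin 2) F) := by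
  have h := det_eq W
  rw [nn_eq, nu]
  ext i j
  fin_cases i <;> fin_cases j
  · simp [Matrix.mul_apply, Fin.sum_univ_two]
    linear_combination (-4) * h
  · simp [Matrix.mul_apply, Fin.sum_univ_two]
    ring
  · simp [Matrix.mul_apply, Fin.sum_univ_two]
    ring
  · simp [Matrix.mul_apply, Fin.sum_univ_two]
    linear_combination (-4) * h

theorem nn_det (W : SL(2, F)) : (nn W).det = nu W := by
  have h := det_eq W
  rw [nn_eq, nu, Matrix.det_fin_two_of]
  linear_combination 4 * h

theorem nn_trace (W : SL(2, F)) : nn W 0 0 + nn W 1 1 = 0 := by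
  rw [nn_eq]
  simp

theorem nn_comm (W : SL(2, F)) : (W : Matrix (Fin 2) (Fin 2) F) * nn W = nn W * W := by
  rw [nn, mul_sub, sub_mul, ← Matrix.SpecialLinearGroup.coe_mul, ← Matrix.SpecialLinearGroup.coe_mul,
    ← Matrix.SpecialLinearGroup.coe_mul, mul_inv_cancel, inv_mul_cancel]

theorem two_smul_coe (W : SL(2, F)) : (2 : F) • (W : Matrix (Fin 2) (Fin 2) F) =
    nn W + (W 0 0 + W 1 1) • (1 : Matrix (Fin 2) (Fin 2) F) := by
  rw [nn_eq]
  ext i j
  fin_cases i <;> fin_cases j <;> simp <;> ring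

theorem not_scalar_of_trace (h2 : (2 : F) ≠ 0) {y : Matrix (Fin 2) (Fin 2) F} (ht : y 0 0 + y 1 1 = 0) (h0 : y ≠ 0) (c : F) :
    y ≠ c • (1 : Matrix (Fin 2) (Fin 2) F) := by
  rintro rfl
  simp at ht
  have h1 : (2 : F) * c = 0 := by linear_combination ht
  rcases mul_eq_zero.1 h1 with h | h
  · exact h2 h
  · rw [h, zero_smul] at h0
    exact h0 rfl

/-- `4 - (trace W)²` is not a square -/
theorem nu_not_sq (hq : Odd (Fintype.card F)) {r : ℕ} (hr : r.Prime) (hr2 : r ≠ 2) (hco : Cop F r)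
    (W : SL(2, F)) (hW : W ^ r = 1) (hW1 : W ≠ 1) (c : F) : nu W ≠ c ^ 2 := by
  intro hc
  have h2 := two_ne (F := F) hq
  have hN := nn_mul W
  by_cases h0 : c = 0
  · rw [h0, zero_pow two_ne_zero] at hc
    rw [hc, neg_zero, zero_smul] at hN
    have hq1 : 1 < Fintype.card F := Fintype.one_lt_card
    -- `W ^ q` is a scalar
    obtain ⟨p, hp⟩ := CharP.exists F
    have hpp : Fact p.Prime := ⟨CharP.char_is_prime F p⟩
    obtain ⟨n, -, hn⟩ := FiniteField.card F p
    have h3 : ((2 : F) • (W : Matrix (Fin 2) (Fin 2) F)) ^ Fintype.card F =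
        (nn W) ^ Fintype.card F + ((W 0 0 + W 1 1) • (1 : Matrix (Fin 2) (Fin 2) F)) ^ Fintype.card F := by
      rw [two_smul_coe, hn]
      exact add_pow_char_pow_of_commute p n ((Commute.one_right _).smul_right _)
    have h4 : (nn W) ^ Fintype.card F = 0 := by
      obtain ⟨k, hk⟩ : ∃ k, Fintype.card F = 2 + k := ⟨Fintype.card F - 2, by omega⟩
      rw [hk, pow_add, sq, hN, zero_mul]
    rw [h4, zero_add, smul_pow, smul_pow, one_pow, FiniteField.pow_card, FiniteField.pow_card] at h3
    have h5 : (2 : F) • ((W ^ Fintype.card F : SL(2, F)) : Matrix (Fin 2) (Fin 2) F) =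
        (W 0 0 + W 1 1) • (1 : Matrix (Fin 2) (Fin 2) F) := by
      rw [Matrix.SpecialLinearGroup.coe_pow]
      exact h3
    have h6 : ((W ^ (Fintype.card F * 2) : SL(2, F)) : Matrix (Fin 2) (Fin 2) F) = 1 := by
      have h7 : ((2 : F) * 2) • ((W ^ (Fintype.card F * 2) : SL(2, F)) : Matrix (Fin 2) (Fin 2) F) =
          ((2 : F) * 2) • (1 : Matrix (Fin 2) (Fin 2) F) := by
        rw [pow_mul, sq, Matrix.SpecialLinearGroup.coe_mul, ← smul_mul_smul_comm, h5, smul_mul_smul_comm, one_mul]
        congr 1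
        have h8 : (4 : F) - (W 0 0 + W 1 1) ^ 2 = 0 := hc
        linear_combination -h8
      have h8 : (2 : F) * 2 ≠ 0 := mul_ne_zero h2 h2
      exact smul_right_injective _ h8 h7
    have h7 : W ^ (Fintype.card F * 2) = 1 := Subtype.ext h6
    have h8 : orderOf W ∣ Nat.gcd r (Fintype.card F * 2) :=
      Nat.dvd_gcd (orderOf_dvd_of_pow_eq_one hW) (orderOf_dvd_of_pow_eq_one h7)
    have h9 : ¬ r ∣ Fintype.card F * 2 := by
      intro h
      rcases hr.dvd_mul.1 h with h | h
      · exact hco.1 h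
      · exact hr2 ((Nat.prime_dvd_prime_iff_eq hr Nat.prime_two).1 h)
    rw [(Nat.Prime.coprime_iff_not_dvd hr).2 h9] at h8
    exact hW1 (orderOf_eq_one_iff.1 (Nat.dvd_one.1 h8))
  · apply hW1
    have hK : (c⁻¹ • nn W) * (c⁻¹ • nn W) = -1 := by
      rw [smul_mul_smul_comm, hN, hc, smul_smul]
      have : c⁻¹ * c⁻¹ * -c ^ 2 = -1 := by field_simp
      rw [this, neg_one_smul]
    refine eq_one_of_commute hq hr hr2 hco (c⁻¹ • nn W) hK ?_ W hW ?_
    · refine not_scalar_of_trace h2 ?_ ?_
      · rw [Matrix.smul_apply, Matrix.smul_apply, ← smul_add, nn_trace, smul_zero]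
      · intro h
        rw [h, zero_mul] at hK
        have := congrFun (congrFun hK 0) 0
        simp at this
    · rw [mul_smul_comm, smul_mul_assoc, nn_comm]

theorem neg_eq_self (h2 : (2 : F) ≠ 0) {X : SL(2, F)} (h : X = -X) : False := by
  have h1 := det_eq X
  have h00 : X 0 0 = -X 0 0 := congrArg (fun Y : SL(2, F) => Y 0 0) h
  have h01 : X 0 1 = -X 0 1 := congrArg (fun Y : SL(2, F) => Y 0 1) h
  have e0 : X 0 0 = 0 := by
    have : (2 : F) * X 0 0 = 0 := by linear_combination h00
    exact (mul_eq_zero.1 this).resolve_left h2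
  have e1 : X 0 1 = 0 := by
    have : (2 : F) * X 0 1 = 0 := by linear_combination h01
    exact (mul_eq_zero.1 this).resolve_left h2
  rw [e0, e1, zero_mul, zero_mul, sub_zero] at h1
  exact zero_ne_one h1

/-- scalars in `SL_2` -/
theorem eq_of_smul_one {X : SL(2, F)} {c : F} (h : (X : Matrix (Fin 2) (Fin 2) F) = c • 1) : X = 1 ∨ X = -1 := by
  have h1 := X.det_coe
  rw [h, Matrix.det_smul, Matrix.det_one, mul_one, Fintype.card_fin] at h1
  have h3 : (c - 1) * (c + 1) = 0 := by linear_combination h1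
  rcases mul_eq_zero.1 h3 with h4 | h4
  · left
    apply Subtype.ext
    rw [h, sub_eq_zero.1 h4, one_smul]
    rfl
  · right
    apply Subtype.ext
    rw [h, eq_neg_of_add_eq_zero_left h4, neg_one_smul]
    rfl

/-- `K² = -1`: not a scalar -/
theorem not_scalar_of_sq (h2 : (2 : F) ≠ 0) {K : SL(2, F)} (hK : K * K = -1) (c : F) :
    (K : Matrix (Fin 2) (Fin 2) F) ≠ c • (1 : Matrix (Fin 2) (Fin 2) F) := by
  intro h
  rcases eq_of_smul_one h with h1 | h1
  · rw [h1, one_mul] at hK
    exact neg_eq_self h2 hK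
  · rw [h1, neg_mul_neg, one_mul] at hK
    exact neg_eq_self h2 hK

theorem coe_sq {K : SL(2, F)} (hK : K * K = -1) :
    (K : Matrix (Fin 2) (Fin 2) F) * K = -1 := by
  rw [← Matrix.SpecialLinearGroup.coe_mul, hK]
  rfl

/-- `T` inverts `W`: anticommutes with the trace zero part -/
theorem anti {W T : SL(2, F)} (hTW : T⁻¹ * W * T = W⁻¹) :
    nn W * (T : Matrix (Fin 2) (Fin 2) F) = -((T : Matrix (Fin 2) (Fin 2) F) * nn W) := by
  have h1 : W * T = T * W⁻¹ := by
    rw [← hTW]; group
  have h2 : W⁻¹ * T = T * W := by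
    have h3 : (T⁻¹ * W * T)⁻¹ = W := by rw [hTW, inv_inv]
    calc W⁻¹ * T = T * (T⁻¹ * W * T)⁻¹ := by group
      _ = T * W := by rw [h3]
  have h1' := congrArg (fun Y : SL(2, F) => (Y : Matrix (Fin 2) (Fin 2) F)) h1
  have h2' := congrArg (fun Y : SL(2, F) => (Y : Matrix (Fin 2) (Fin 2) F)) h2
  simp only [Matrix.SpecialLinearGroup.coe_mul] at h1' h2'
  rw [nn, sub_mul, mul_sub, h1', h2', neg_sub]

/-- **The fixed points.** -/
theorem fixed (h2 : (2 : F) ≠ 0) {W T K : SL(2, F)} (hnu : ∀ c : F, nu W ≠ c ^ 2) (hT : T * T = -1)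
    (hTW : T⁻¹ * W * T = W⁻¹)
    (hKT : (K : Matrix (Fin 2) (Fin 2) F) * T = T * K ∨ (K : Matrix (Fin 2) (Fin 2) F) * T = -(T * K))
    (hKN : (K : Matrix (Fin 2) (Fin 2) F) * nn W = nn W * K ∨ (K : Matrix (Fin 2) (Fin 2) F) * nn W = -(nn W * K)) :
    K = 1 ∨ K = -1 ∨ K = T ∨ K = -T := by
  have hNT := anti hTW
  have hTT := coe_sq hT
  set N := nn W with hN
  set t : Matrix (Fin 2) (Fin 2) F := (T : Matrix (Fin 2) (Fin 2) F) with ht
  have hNN : N * N = (-nu W) • (1 : Matrix (Fin 2) (Fin 2) F) := nn_mul W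
  have hnu0 : nu W ≠ 0 := by
    have := hnu 0
    rwa [zero_pow two_ne_zero] at this
  have hN0 : N ≠ 0 := by
    intro h
    have h1 := nn_det W
    rw [← hN, h, Matrix.det_zero] at h1
    exact hnu0 h1.symm
  have hNs := not_scalar_of_trace h2 (nn_trace W) hN0
  have hNT0 : N * t ≠ 0 := by
    intro h
    have h1 : (N * t).det = nu W * 1 := by rw [Matrix.det_mul, hN, nn_det, ht, T.det_coe]
    rw [h, Matrix.det_zero, mul_one] at h1
    exact hnu0 h1.symm
  have ht0 : t ≠ 0 := by
    rintro h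
    rw [h, mul_zero] at hNT0
    exact hNT0 rfl
  -- determinant of multiples of `N`
  have hdet : ∀ α : F, α ^ 2 * nu W = 1 → False := by
    intro α h
    have hα : α ≠ 0 := by
      rintro rfl
      rw [zero_pow two_ne_zero, zero_mul] at h
      exact zero_ne_one h
    apply hnu α⁻¹
    field_simp
    linear_combination h
  have two_smul_zero : ∀ (α : F) (M : Matrix (Fin 2) (Fin 2) F), M ≠ 0 → (2 * α) • M = 0 → α = 0 := by
    intro α M hM h
    rcases smul_eq_zero.1 h with h1 | h1
    · exact (mul_eq_zero.1 h1).resolve_left h2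
    · exact absurd h1 hM
  rcases hKN with hKN | hKN
  · obtain ⟨α, β, hK⟩ := comm_two hNs hKN
    rcases hKT with hKT | hKT
    · -- commutes with `T`
      have h1 : (2 * α) • (N * t) = 0 := by
        rw [hK, add_mul, mul_add, smul_mul_assoc, mul_smul_comm, smul_mul_assoc, mul_smul_comm, one_mul,
          mul_one, add_left_inj] at hKT
        have h3 : t * N = -(N * t) := by rw [hNT, neg_neg]
        rw [h3, smul_neg] at hKT
        rw [two_mul, add_smul]
        nth_rewrite 1 [hKT]
        rw [neg_add_cancel]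
      have h3 := two_smul_zero α _ hNT0 h1
      rw [h3, zero_smul, zero_add] at hK
      rcases eq_of_smul_one hK with h | h
      · exact Or.inl h
      · exact Or.inr (Or.inl h)
    · exfalso
      have h1 : (2 * β) • t = 0 := by
        rw [hK, add_mul, mul_add, smul_mul_assoc, mul_smul_comm, smul_mul_assoc, mul_smul_comm, one_mul,
          mul_one, hNT, neg_add, smul_neg, add_right_inj] at hKT
        rw [two_mul, add_smul]
        nth_rewrite 1 [hKT]
        rw [neg_add_cancel]
      have h3 := two_smul_zero β _ ht0 h1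
      rw [h3, zero_smul, add_zero] at hK
      have h4 := K.det_coe
      rw [hK, Matrix.det_smul, Fintype.card_fin] at h4
      exact hdet α (by rw [← nn_det W]; exact h4)
  · -- `K T` commutes with `N`
    have hc : ((K : Matrix (Fin 2) (Fin 2) F) * t) * N = N * ((K : Matrix (Fin 2) (Fin 2) F) * t) := by
      have h3 : t * N = -(N * t) := by rw [hNT, neg_neg]
      rw [mul_assoc, h3, mul_neg, ← mul_assoc, hKN, neg_mul, neg_neg, mul_assoc]
    obtain ⟨α, β, hK'⟩ := comm_two hNs hc
    -- `K = - (α N + β) T`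
    have hK : (K : Matrix (Fin 2) (Fin 2) F) = -(α • (N * t) + β • t) := by
      have h3 : (K : Matrix (Fin 2) (Fin 2) F) = -((K : Matrix (Fin 2) (Fin 2) F) * t * t) := by
        rw [mul_assoc, hTT, mul_neg, mul_one, neg_neg]
      rw [h3, hK', add_mul, smul_mul_assoc, smul_mul_assoc, one_mul]
    have hT' : t * (N * t) = N := by
      rw [← mul_assoc]
      have h3 : t * N = -(N * t) := by rw [hNT, neg_neg]
      rw [h3, neg_mul, mul_assoc, hTT, mul_neg, mul_one, neg_neg]
    have htK : t * (K : Matrix (Fin 2) (Fin 2) F) = -(α • N) + β • (1 : Matrix (Fin 2) (Fin 2) F) := by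
      rw [hK, mul_neg, mul_add, mul_smul_comm, mul_smul_comm, hT', hTT, smul_neg, neg_add, neg_neg]
    rcases hKT with hKT | hKT
    · have h1 : (2 * α) • N = 0 := by
        rw [hK', htK, add_left_inj] at hKT
        rw [two_mul, add_smul]
        nth_rewrite 1 [hKT]
        rw [neg_add_cancel]
      have h3 := two_smul_zero α _ hN0 h1
      rw [h3, zero_smul, zero_add] at hK
      have h4 := K.det_coe
      rw [hK, Matrix.det_neg, Fintype.card_fin, Matrix.det_smul, Fintype.card_fin, ht, T.det_coe] at h4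
      have h5 : (β - 1) * (β + 1) = 0 := by linear_combination h4
      rcases mul_eq_zero.1 h5 with h6 | h6
      · right; right; right
        apply Subtype.ext
        rw [hK, sub_eq_zero.1 h6, one_smul]
        rfl
      · right; right; left
        apply Subtype.ext
        rw [hK, eq_neg_of_add_eq_zero_left h6, neg_one_smul, neg_neg]
    · exfalso
      have h1 : (2 * β) • (1 : Matrix (Fin 2) (Fin 2) F) = 0 := by
        rw [hK', htK, neg_add, neg_neg, add_right_inj] at hKT
        rw [two_mul, add_smul]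
        nth_rewrite 1 [hKT]
        rw [neg_add_cancel]
      have h3 := two_smul_zero β _ one_ne_zero h1
      rw [h3, zero_smul, add_zero] at hK
      have h4 := K.det_coe
      rw [hK, Matrix.det_neg, Fintype.card_fin, Matrix.det_smul, Fintype.card_fin, Matrix.det_mul, ht,
        T.det_coe] at h4
      exact hdet α (by rw [← nn_det W]; linear_combination h4)

/-- conjugation by an invertible matrix -/
def cj (N : GL (Fin 2) F) : SL(2, F) →* SL(2, F) where
  toFun X := ⟨(N : Matrix (Fin 2) (Fin 2) F) * X * ((N⁻¹ : GL (Fin 2) F) : Matrix (Fin 2) (Fin 2) F), by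
    rw [Matrix.det_mul, Matrix.det_mul, X.det_coe, mul_one, ← Matrix.det_mul, ← Units.val_mul, mul_inv_cancel,
      Units.val_one, Matrix.det_one]⟩
  map_one' := by
    apply Subtype.ext
    show (N : Matrix (Fin 2) (Fin 2) F) * (1 : Matrix (Fin 2) (Fin 2) F) *
      ((N⁻¹ : GL (Fin 2) F) : Matrix (Fin 2) (Fin 2) F) = 1
    rw [mul_one, ← Units.val_mul, mul_inv_cancel, Units.val_one]
  map_mul' X Y := by
    apply Subtype.ext
    show (N : Matrix (Fin 2) (Fin 2) F) * ((X : Matrix (Fin 2) (Fin 2) F) * Y) *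
      ((N⁻¹ : GL (Fin 2) F) : Matrix (Fin 2) (Fin 2) F) =
        (N : Matrix (Fin 2) (Fin 2) F) * X * ((N⁻¹ : GL (Fin 2) F) : Matrix (Fin 2) (Fin 2) F) *
        ((N : Matrix (Fin 2) (Fin 2) F) * Y * ((N⁻¹ : GL (Fin 2) F) : Matrix (Fin 2) (Fin 2) F))
    have h1 : ((N⁻¹ : GL (Fin 2) F) : Matrix (Fin 2) (Fin 2) F) * (N : Matrix (Fin 2) (Fin 2) F) = 1 := by
      rw [← Units.val_mul, inv_mul_cancel, Units.val_one]
    calc _ = (N : Matrix (Fin 2) (Fin 2) F) * X * 1 * Y * ((N⁻¹ : GL (Fin 2) F) : Matrix (Fin 2) (Fin 2) F) := by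
          simp only [mul_assoc, mul_one]
      _ = _ := by rw [← h1]; simp only [mul_assoc]

theorem cj_coe (N : GL (Fin 2) F) (X : SL(2, F)) : ((cj N X : SL(2, F)) : Matrix (Fin 2) (Fin 2) F) =
    (N : Matrix (Fin 2) (Fin 2) F) * X * ((N⁻¹ : GL (Fin 2) F) : Matrix (Fin 2) (Fin 2) F) := rfl

theorem cj_neg (N : GL (Fin 2) F) (X : SL(2, F)) : cj N (-X) = -cj N X := by
  apply Subtype.ext
  show (N : Matrix (Fin 2) (Fin 2) F) * (-(X : Matrix (Fin 2) (Fin 2) F)) *
      ((N⁻¹ : GL (Fin 2) F) : Matrix (Fin 2) (Fin 2) F) = -((N : Matrix (Fin 2) (Fin 2) F) * X *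
      ((N⁻¹ : GL (Fin 2) F) : Matrix (Fin 2) (Fin 2) F))
  rw [mul_neg, neg_mul]

/-- the induced automorphism of `PSL_2` -/
theorem exists_aut (N : GL (Fin 2) F) : ∃ f : ProjectiveSpecialLinearGroup (Fin 2) F →*
    ProjectiveSpecialLinearGroup (Fin 2) F, ∀ X : SL(2, F), f (pr F X) = pr F (cj N X) := by
  refine ⟨QuotientGroup.map _ _ (cj N) ?_, fun X => rfl⟩
  intro X hX
  have h1 : pr F X = 1 := (QuotientGroup.eq_one_iff X).2 hX
  rw [Subgroup.mem_comap]
  apply (QuotientGroup.eq_one_iff (cj N X)).1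
  change pr F (cj N X) = 1
  rcases (pr_eq_one_iff X).1 h1 with h | h
  · rw [h, map_one, map_one]
  · rw [h, cj_neg, map_one, pr_eq_one_iff]
    exact Or.inr rfl

theorem pr_neg (X : SL(2, F)) : pr F (-X) = pr F X := (pr_eq_iff _ _).2 (Or.inr rfl)

theorem coe_neg (X : SL(2, F)) : ((-X : SL(2, F)) : Matrix (Fin 2) (Fin 2) F) = -(X : Matrix (Fin 2) (Fin 2) F) := rfl

/-- a lift of order `r` -/
theorem exists_lift {r : ℕ} (hr : Odd r) {x : ProjectiveSpecialLinearGroup (Fin 2) F} (hx : x ^ r = 1) :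
    ∃ X : SL(2, F), pr F X = x ∧ X ^ r = 1 := by
  obtain ⟨X, rfl⟩ := pr_surjective F x
  rw [← map_pow, pr_eq_one_iff] at hx
  rcases hx with h | h
  · exact ⟨X, rfl, h⟩
  · exact ⟨-X, pr_neg X, by rw [hr.neg_pow, h, neg_neg]⟩

/-- an involution lifts to an element of order 4 -/
theorem sq_eq_neg_one (h2 : (2 : F) ≠ 0) {K : SL(2, F)} (hK : pr F K * pr F K = 1) (h1 : pr F K ≠ 1) :
    K * K = -1 := by
  rw [← map_mul, pr_eq_one_iff] at hK
  rcases hK with h | h
  · exfalso
    apply h1
    have h3 : K = K⁻¹ := eq_inv_of_mul_eq_one_left h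
    have h4 := congrArg (fun Y : SL(2, F) => (Y : Matrix (Fin 2) (Fin 2) F)) h3
    have h5 : nn K = 0 := by rw [nn]; exact sub_eq_zero.2 h4
    rw [nn_eq] at h5
    have e00 := congrFun (congrFun h5 0) 0
    have e01 := congrFun (congrFun h5 0) 1
    have e10 := congrFun (congrFun h5 1) 0
    simp at e00 e01 e10
    have e01' := e01.resolve_left h2
    have e10' := e10.resolve_left h2
    rw [pr_eq_one_iff]
    apply eq_of_smul_one (c := K 0 0)
    ext i j
    fin_cases i <;> fin_cases j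
    · simp
    · simpa using e01'
    · simpa using e10'
    · simp
      exact (sub_eq_zero.1 e00).symm
  · exact h

theorem no_two_r (hq : Odd (Fintype.card F)) {r : ℕ} (hr : r.Prime) (hr2 : r ≠ 2) (hco : Cop F r)
    (g : ProjectiveSpecialLinearGroup (Fin 2) F) : orderOf g ≠ 2 * r := by
  intro hg
  have h2 := two_ne (F := F) hq
  have hro := hr.odd_of_ne_two hr2
  have hk : orderOf (g ^ r) = 2 := by
    rw [orderOf_pow, hg, Nat.gcd_eq_right (Dvd.intro_left _ rfl), Nat.mul_div_cancel _ hr.pos]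
  have hx : orderOf (g ^ 2) = r := by
    rw [orderOf_pow, hg, Nat.gcd_eq_right (Dvd.intro _ rfl), Nat.mul_div_cancel_left _ (by norm_num)]
  obtain ⟨K, hK⟩ := pr_surjective F (g ^ r)
  obtain ⟨X, hX, hXr⟩ := exists_lift hro (x := g ^ 2) (by rw [← hx, pow_orderOf_eq_one])
  have hKK : K * K = -1 := by
    apply sq_eq_neg_one h2
    · rw [hK, ← sq]
      exact orderOf_dvd_iff_pow_eq_one.1 hk.dvd
    · rw [hK]
      intro h
      rw [h, orderOf_one] at hk
      norm_num at hk
  have hc : pr F (X * K) = pr F (K * X) := by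
    rw [map_mul, map_mul, hX, hK, ← pow_add, ← pow_add, add_comm]
  have hX1 : X = 1 := by
    have hc' : X * K = K * X := by
      rcases (pr_eq_iff _ _).1 hc with h | h
      · exact h
      · exfalso
        -- `K X = - X K`
        have h3 : ∀ j : ℕ, Odd j → X ^ j * K = -(K * X ^ j) := by
          have h4 : ∀ j : ℕ, (Odd j → X ^ j * K = -(K * X ^ j)) ∧ (Even j → X ^ j * K = K * X ^ j) := by
            intro j
            induction j with
            | zero => exact ⟨fun h => by simp at h, fun _ => by simp⟩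
            | succ j ih =>
              constructor
              · intro hj
                have : Even j := by
                  rcases Nat.even_or_odd j with h5 | h5
                  · exact h5
                  · exact absurd hj (Nat.not_odd_iff_even.2 h5.add_one)
                rw [pow_succ, mul_assoc, h, mul_neg, ← mul_assoc, ih.2 this, mul_assoc]
              · intro hj
                have : Odd j := by
                  rcases Nat.even_or_odd j with h5 | h5
                  · exact absurd hj (Nat.not_even_iff_odd.2 h5.add_one)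
                  · exact h5
                rw [pow_succ, mul_assoc, h, mul_neg, ← mul_assoc, ih.1 this, neg_mul, neg_neg, mul_assoc]
          exact fun j => (h4 j).1
        have h5 := h3 r hro
        rw [hXr, one_mul, mul_one] at h5
        exact neg_eq_self h2 h5
    refine eq_one_of_commute hq hr hr2 hco K (coe_sq hKK) (not_scalar_of_sq h2 hKK) X hXr ?_
    have := congrArg (fun Y : SL(2, F) => (Y : Matrix (Fin 2) (Fin 2) F)) hc'
    simpa using this
  rw [hX1, map_one] at hX
  rw [← hX, orderOf_one] at hx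
  exact hr.one_lt.ne hx

/-- **The criterion.** -/
theorem nb_of (hq : Odd (Fintype.card F)) {r : ℕ} (hr : r.Prime) (hr2 : r ≠ 2) (hco : Cop F r)
    (W T : SL(2, F)) (hW : W ^ r = 1) (hW1 : W ≠ 1) (hT : T * T = -1) (hTW : T⁻¹ * W * T = W⁻¹) :
    NB (ProjectiveSpecialLinearGroup (Fin 2) F) := by
  have h2 := two_ne (F := F) hq
  have hnu := nu_not_sq hq hr hr2 hco W hW hW1
  have hro := hr.odd_of_ne_two hr2
  have hfin : Finite (ProjectiveSpecialLinearGroup (Fin 2) F) := inferInstance
  set w := pr F W with hw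
  set t := pr F T with ht
  have htt : t * t = 1 := by
    rw [ht, ← map_mul, hT, pr_eq_one_iff]
    exact Or.inr rfl
  have ht1 : t ≠ 1 := by
    rw [ht, Ne, pr_eq_one_iff]
    rintro (h | h)
    · rw [h, one_mul] at hT
      exact neg_eq_self h2 hT
    · rw [h, neg_mul_neg, one_mul] at hT
      exact neg_eq_self h2 hT
  have htinv : t⁻¹ = t := inv_eq_of_mul_eq_one_right htt
  have htw : t * w * t = w⁻¹ := by
    have h3 := congrArg (pr F) hTW
    rw [map_mul, map_mul, map_inv, map_inv, ← ht, ← hw, htinv] at h3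
    exact h3
  have hwr : orderOf w = r := by
    have h3 : w ^ r = 1 := by rw [hw, ← map_pow, hW, map_one]
    rcases (Nat.dvd_prime hr).1 (orderOf_dvd_of_pow_eq_one h3) with h | h
    · exfalso
      rw [orderOf_eq_one_iff, hw, pr_eq_one_iff] at h
      rcases h with h | h
      · exact hW1 h
      · rw [h, hro.neg_one_pow] at hW
        exact neg_eq_self h2 hW.symm
    · exact h
  -- the outer involution
  have hunit : IsUnit (nn W) := by
    rw [Matrix.isUnit_iff_isUnit_det, nn_det, isUnit_iff_ne_zero]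
    have := hnu 0
    rwa [zero_pow two_ne_zero] at this
  obtain ⟨N, hN⟩ := hunit
  obtain ⟨f, hf⟩ := exists_aut N
  have hNi : ((N⁻¹ : GL (Fin 2) F) : Matrix (Fin 2) (Fin 2) F) * (N : Matrix (Fin 2) (Fin 2) F) = 1 := by
    rw [← Units.val_mul, inv_mul_cancel, Units.val_one]
  have hNi' : (N : Matrix (Fin 2) (Fin 2) F) * ((N⁻¹ : GL (Fin 2) F) : Matrix (Fin 2) (Fin 2) F) = 1 := by
    rw [← Units.val_mul, mul_inv_cancel, Units.val_one]
  have hff : ∀ k, f (f k) = k := by
    intro k
    obtain ⟨K, rfl⟩ := pr_surjective F k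
    rw [hf, hf]
    congr 1
    apply Subtype.ext
    rw [cj_coe, cj_coe]
    have h3 : (N : Matrix (Fin 2) (Fin 2) F) * N = (-nu W) • (1 : Matrix (Fin 2) (Fin 2) F) := by
      rw [hN]; exact nn_mul W
    calc (N : Matrix (Fin 2) (Fin 2) F) * ((N : Matrix (Fin 2) (Fin 2) F) * K *
          ((N⁻¹ : GL (Fin 2) F) : Matrix (Fin 2) (Fin 2) F)) * ((N⁻¹ : GL (Fin 2) F) : Matrix (Fin 2) (Fin 2) F)
        = ((N : Matrix (Fin 2) (Fin 2) F) * N) * K * ((N⁻¹ : GL (Fin 2) F) : Matrix (Fin 2) (Fin 2) F) *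
          ((N⁻¹ : GL (Fin 2) F) : Matrix (Fin 2) (Fin 2) F) := by simp only [mul_assoc]
      _ = K * ((N : Matrix (Fin 2) (Fin 2) F) * N) * ((N⁻¹ : GL (Fin 2) F) : Matrix (Fin 2) (Fin 2) F) *
          ((N⁻¹ : GL (Fin 2) F) : Matrix (Fin 2) (Fin 2) F) := by
            rw [h3, smul_mul_assoc, one_mul, mul_smul_comm, mul_one]
      _ = K * ((N : Matrix (Fin 2) (Fin 2) F) * (N * ((N⁻¹ : GL (Fin 2) F) : Matrix (Fin 2) (Fin 2) F)) *
          ((N⁻¹ : GL (Fin 2) F) : Matrix (Fin 2) (Fin 2) F)) := by simp only [mul_assoc]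
      _ = K := by rw [hNi', mul_one, hNi', mul_one]
  have hfi : Function.Injective f := fun a b h => by rw [← hff a, h, hff b]
  have hfw : f w = w := by
    rw [hw, hf]
    congr 1
    apply Subtype.ext
    rw [cj_coe]
    have h3 := nn_comm W
    rw [← hN] at h3
    rw [← h3, mul_assoc, hNi', mul_one]
  have hft : f t = t := by
    rw [ht, hf, pr_eq_iff]
    right
    apply Subtype.ext
    rw [cj_coe, coe_neg]
    have h3 := anti hTW
    rw [← hN] at h3
    rw [h3, neg_mul, mul_assoc, hNi', mul_one]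
  refine NB.of_count hr hr2 (no_two_r hq hr hr2 hco) hwr htt ht1 htw ?_
  have p1 : ∀ k, k * k = 1 → f k * f k = 1 := fun k hk => by rw [← map_mul, hk, map_one]
  have p2 : ∀ k, k * t = t * k → f k * t = t * f k := fun k hk => by
    have h5 := congrArg f hk
    rwa [map_mul, map_mul, hft] at h5
  have p3 : ∀ k, orderOf (k * w) = r → orderOf (f k * w) = r := fun k hk => by
    have h5 := orderOf_injective f hfi (k * w)
    rw [map_mul, hfw] at h5
    rw [h5, hk]
  have h3 := card_modEq_of_involutive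
    (α := {k : ProjectiveSpecialLinearGroup (Fin 2) F // k * k = 1 ∧ k * t = t * k ∧ orderOf (k * w) = r})
    (fun k => ⟨f k.1, p1 _ k.2.1, p2 _ k.2.2.1, p3 _ k.2.2.2⟩) (fun k => Subtype.ext (hff k.1))
  have h4 : Nat.card {a : {k : ProjectiveSpecialLinearGroup (Fin 2) F // k * k = 1 ∧ k * t = t * k ∧
      orderOf (k * w) = r} // (⟨f a.1, p1 _ a.2.1, p2 _ a.2.2.1, p3 _ a.2.2.2⟩ :
      {k : ProjectiveSpecialLinearGroup (Fin 2) F // k * k = 1 ∧ k * t = t * k ∧
      orderOf (k * w) = r}) = a} = 1 := by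
    rw [Nat.card_eq_one_iff_unique]
    constructor
    · -- fixed points are trivial
      have h5 : ∀ k : ProjectiveSpecialLinearGroup (Fin 2) F, k * t = t * k → orderOf (k * w) = r → f k = k →
          k = 1 := by
        intro k hkt hkw hfk
        obtain ⟨K, rfl⟩ := pr_surjective F k
        have h6 : K = 1 ∨ K = -1 ∨ K = T ∨ K = -T := by
          apply fixed h2 hnu hT hTW
          · rw [ht, ← map_mul, ← map_mul, pr_eq_iff] at hkt
            rcases hkt with h | h
            · left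
              have := congrArg (fun Y : SL(2, F) => (Y : Matrix (Fin 2) (Fin 2) F)) h
              simpa using this
            · right
              have := congrArg (fun Y : SL(2, F) => (Y : Matrix (Fin 2) (Fin 2) F)) h
              simpa using this
          · rw [hf, pr_eq_iff] at hfk
            rcases hfk with h | h
            · left
              have h7 := congrArg (fun Y : SL(2, F) => (Y : Matrix (Fin 2) (Fin 2) F)) h
              simp only [cj_coe] at h7
              rw [← hN]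
              nth_rewrite 1 [← h7]
              rw [mul_assoc, hNi, mul_one]
            · right
              have h7 := congrArg (fun Y : SL(2, F) => (Y : Matrix (Fin 2) (Fin 2) F)) h
              simp only [cj_coe, coe_neg] at h7
              rw [← hN, ← neg_eq_iff_eq_neg, ← neg_mul]
              nth_rewrite 1 [← h7]
              rw [mul_assoc, hNi, mul_one]
        rcases h6 with h | h | h | h
        · rw [h, map_one]
        · rw [h, pr_neg, map_one]
        · exfalso
          have h7 : (t * w) ^ 2 = 1 := by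
            rw [sq]
            calc t * w * (t * w) = (t * w * t) * w := by simp only [mul_assoc]
              _ = 1 := by rw [htw, inv_mul_cancel]
          rw [h, ← ht] at hkw
          have h8 := orderOf_dvd_of_pow_eq_one h7
          rw [hkw] at h8
          exact hr2 ((Nat.prime_dvd_prime_iff_eq hr Nat.prime_two).1 h8)
        · exfalso
          have h7 : (t * w) ^ 2 = 1 := by
            rw [sq]
            calc t * w * (t * w) = (t * w * t) * w := by simp only [mul_assoc]
              _ = 1 := by rw [htw, inv_mul_cancel]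
          rw [h, pr_neg, ← ht] at hkw
          have h8 := orderOf_dvd_of_pow_eq_one h7
          rw [hkw] at h8
          exact hr2 ((Nat.prime_dvd_prime_iff_eq hr Nat.prime_two).1 h8)
      constructor
      intro a b
      apply Subtype.ext
      apply Subtype.ext
      rw [h5 a.1.1 a.1.2.2.1 a.1.2.2.2 (congrArg Subtype.val a.2),
        h5 b.1.1 b.1.2.2.1 b.1.2.2.2 (congrArg Subtype.val b.2)]
    · refine ⟨⟨⟨1, by rw [mul_one], by rw [one_mul, mul_one], by rw [one_mul]; exact hwr⟩, ?_⟩⟩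
      apply Subtype.ext
      exact map_one f
  rw [h4] at h3
  rw [Nat.odd_iff]
  exact h3

/-- the split torus -/
def dia : Fˣ →* SL(2, F) where
  toFun u := ⟨!![(u : F), 0; 0, ((u⁻¹ : Fˣ) : F)], by
    rw [Matrix.det_fin_two_of, ← Units.val_mul, mul_inv_cancel, Units.val_one, mul_zero, sub_zero]⟩
  map_one' := by
    apply Subtype.ext
    show !![((1 : Fˣ) : F), 0; 0, (((1 : Fˣ)⁻¹ : Fˣ) : F)] = (1 : Matrix (Fin 2) (Fin 2) F)
    rw [inv_one, Units.val_one, Matrix.one_fin_two]
  map_mul' u v := by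
    apply Subtype.ext
    show !![((u * v : Fˣ) : F), 0; 0, (((u * v)⁻¹ : Fˣ) : F)] =
      (!![(u : F), 0; 0, ((u⁻¹ : Fˣ) : F)] : Matrix (Fin 2) (Fin 2) F) * !![(v : F), 0; 0, ((v⁻¹ : Fˣ) : F)]
    rw [Matrix.mul_fin_two, _root_.mul_inv_rev, Units.val_mul, Units.val_mul]
    simp only [mul_zero, zero_mul, add_zero, zero_add]
    rw [mul_comm ((v⁻¹ : Fˣ) : F)]

/-- the Weyl element -/
def wey : SL(2, F) := ⟨!![0, 1; -1, 0], by rw [Matrix.det_fin_two_of]; ring⟩

theorem wey_sq : (wey : SL(2, F)) * wey = -1 := by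
  apply Subtype.ext
  show (!![0, 1; -1, 0] : Matrix (Fin 2) (Fin 2) F) * !![0, 1; -1, 0] = -1
  rw [Matrix.mul_fin_two]
  ext i j
  fin_cases i <;> fin_cases j <;> simp

theorem dia_wey (u : Fˣ) : dia u * wey = wey * (dia u)⁻¹ := by
  rw [← map_inv]
  apply Subtype.ext
  show (!![(u : F), 0; 0, ((u⁻¹ : Fˣ) : F)] : Matrix (Fin 2) (Fin 2) F) * !![0, 1; -1, 0] =
    (!![0, 1; -1, 0] : Matrix (Fin 2) (Fin 2) F) * !![((u⁻¹ : Fˣ) : F), 0; 0, (((u⁻¹)⁻¹ : Fˣ) : F)]
  rw [Matrix.mul_fin_two, Matrix.mul_fin_two, inv_inv]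
  ext i j
  fin_cases i <;> fin_cases j <;> simp

/-- **`PSL_2(q)`, `q > 3` odd, has more than one 2-block.** -/
theorem nb_psl2 (h2 : Odd (Fintype.card F)) (h3 : 3 < Fintype.card F) :
    NB (ProjectiveSpecialLinearGroup (Fin 2) F) := by
  rcases (show Fintype.card F % 4 = 1 ∨ Fintype.card F % 4 = 3 by obtain ⟨k, hk⟩ := h2; omega) with h4 | h4
  · -- the non-split torus
    obtain ⟨a, s, ha, hs, hsa, -⟩ := ClassicalGeometry.NonsplitTorus.exists_torus_TI F
    set r := ((Fintype.card F + 1) / 2).minFac with hr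
    have hrp : r.Prime := Nat.minFac_prime (by omega)
    have hrd : r ∣ (Fintype.card F + 1) / 2 := Nat.minFac_dvd _
    have hr2 : r ≠ 2 := by
      intro h
      rw [h] at hrd
      omega
    have hrq : r ∣ Fintype.card F + 1 := hrd.trans (Nat.div_dvd_of_dvd (by omega))
    have hco : Cop F r := by
      refine ⟨?_, ?_, fun h => by omega⟩
      · intro h
        have h5 : r ∣ 1 := (Nat.dvd_add_right h).1 hrq
        exact hrp.one_lt.ne' (Nat.dvd_one.1 h5)
      · intro _ h
        have h5 := Nat.dvd_sub hrq h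
        rw [show Fintype.card F + 1 - (Fintype.card F - 1) = 2 by omega] at h5
        exact hr2 ((Nat.prime_dvd_prime_iff_eq hrp Nat.prime_two).1 h5)
    have hord : orderOf (a ^ ((Fintype.card F + 1) / r)) = r := by
      have h5 := orderOf_pow_orderOf_div (x := a) (n := r) (by rw [ha]; omega) (by rw [ha]; exact hrq)
      rwa [ha] at h5
    refine nb_of h2 hrp hr2 hco (a ^ ((Fintype.card F + 1) / r)) s ?_ ?_ hs ?_
    · exact orderOf_dvd_iff_pow_eq_one.1 hord.dvd
    · intro h
      rw [h, orderOf_one] at hord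
      exact hrp.one_lt.ne hord
    · have h5 : s⁻¹ * a ^ ((Fintype.card F + 1) / r) * s = (s⁻¹ * a * s) ^ ((Fintype.card F + 1) / r) := by
        have := conj_pow (a := s⁻¹) (b := a) (i := (Fintype.card F + 1) / r)
        rw [inv_inv] at this
        exact this.symm
      rw [h5, hsa, inv_pow]
  · -- the split torus
    obtain ⟨y, hy⟩ := IsCyclic.exists_generator (α := Fˣ)
    have hordy : orderOf y = Fintype.card F - 1 := by
      rw [orderOf_eq_card_of_forall_mem_zpowers hy, Nat.card_units, Nat.card_eq_fintype_card]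
    set r := ((Fintype.card F - 1) / 2).minFac with hr
    have hrp : r.Prime := Nat.minFac_prime (by omega)
    have hrd : r ∣ (Fintype.card F - 1) / 2 := Nat.minFac_dvd _
    have hr2 : r ≠ 2 := by
      intro h
      rw [h] at hrd
      omega
    have hrq : r ∣ Fintype.card F - 1 := hrd.trans (Nat.div_dvd_of_dvd (by omega))
    have hco : Cop F r := by
      refine ⟨?_, fun h => by omega, ?_⟩
      · intro h
        have h5 := Nat.dvd_sub h hrq
        rw [show Fintype.card F - (Fintype.card F - 1) = 1 by omega] at h5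
        exact hrp.one_lt.ne' (Nat.dvd_one.1 h5)
      · intro _ h
        have h5 := Nat.dvd_sub h hrq
        rw [show Fintype.card F + 1 - (Fintype.card F - 1) = 2 by omega] at h5
        exact hr2 ((Nat.prime_dvd_prime_iff_eq hrp Nat.prime_two).1 h5)
    have hord : orderOf (y ^ ((Fintype.card F - 1) / r)) = r := by
      have h5 := orderOf_pow_orderOf_div (x := y) (n := r) (by rw [hordy]; omega) (by rw [hordy]; exact hrq)
      rwa [hordy] at h5
    refine nb_of h2 hrp hr2 hco (dia (y ^ ((Fintype.card F - 1) / r))) wey ?_ ?_ wey_sq ?_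
    · rw [← map_pow, orderOf_dvd_iff_pow_eq_one.1 hord.dvd, map_one]
    · intro h
      have h5 := congrArg (fun Y : SL(2, F) => (Y : Matrix (Fin 2) (Fin 2) F) 0 0) h
      have h6 : y ^ ((Fintype.card F - 1) / r) = 1 := by
        have e1 : ((1 : SL(2, F)) : Matrix (Fin 2) (Fin 2) F) 0 0 = 1 := by simp
        exact Units.ext (h5.trans e1)
      rw [h6, orderOf_one] at hord
      exact hrp.one_lt.ne hord
    · rw [mul_assoc, dia_wey, inv_mul_cancel_left]

end Fin

end Cfsg.Agent.H102.NbPslTwo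
end

-- part: H215/NBAlt
section
/-!
# S5004: the alternating groups have more than one 2-block
-/

set_option autoImplicit false
open Cfsg

namespace Cfsg.Agent.H215.NBAlt

open Cfsg.Agent.H526.OB

/-! ### small degrees by counting -/

/-- counting criterion in decidable form, in a group of even permutations -/
theorem nb_of_count {n r : ℕ} (hr : r.Prime) (hr2 : r ≠ 2) {w t : Equiv.Perm (Fin n)}
    (hws : Equiv.Perm.sign w = 1) (hts : Equiv.Perm.sign t = 1)
    (h2r : ∀ g : Equiv.Perm (Fin n), g ^ (2 * r) = 1 → g ^ r = 1 ∨ g ^ 2 = 1 ∨ Equiv.Perm.sign g = -1)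
    (hw : w ^ r = 1) (hw1 : w ≠ 1) (ht : t * t = 1) (ht1 : t ≠ 1) (htw : t * w * t = w⁻¹)
    {c : ℕ} (hc : Fintype.card {k : Equiv.Perm (Fin n) // Equiv.Perm.sign k = 1 ∧ k * k = 1 ∧
      k * t = t * k ∧ (k * w) ^ r = 1 ∧ k * w ≠ 1} = c) (hodd : Odd c) :
    NB (alternatingGroup (Fin n)) := by
  have : Fact r.Prime := ⟨hr⟩
  refine NB.of_count (r := r) hr hr2 ?_ (w := ⟨w, hws⟩) (t := ⟨t, hts⟩) ?_ ?_ ?_ ?_ ?_
  · intro g hg
    have h1 : (g : Equiv.Perm (Fin n)) ^ (2 * r) = 1 := by
      have := pow_orderOf_eq_one g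
      rw [hg] at this
      exact_mod_cast congrArg Subtype.val this
    have hr0 := hr.pos
    rcases h2r _ h1 with h | h | h
    · have h2 : g ^ r = 1 := Subtype.ext (by push_cast; exact h)
      have := Nat.le_of_dvd hr0 (orderOf_dvd_of_pow_eq_one h2)
      omega
    · have h2 : g ^ 2 = 1 := Subtype.ext (by push_cast; exact h)
      have h3 := Nat.le_of_dvd (by norm_num) (orderOf_dvd_of_pow_eq_one h2)
      have := hr.two_le
      omega
    · have h2 : Equiv.Perm.sign (g : Equiv.Perm (Fin n)) = 1 := Equiv.Perm.mem_alternatingGroup.1 g.2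
      rw [h2] at h
      exact absurd h (by decide)
  · apply orderOf_eq_prime
    · exact Subtype.ext (by push_cast; exact hw)
    · intro h
      exact hw1 (congrArg Subtype.val h)
  · exact Subtype.ext ht
  · intro h
    exact ht1 (congrArg Subtype.val h)
  · exact Subtype.ext htw
  · rw [← hc] at hodd
    convert hodd using 1
    rw [← Nat.card_eq_fintype_card]
    refine Nat.card_congr ⟨fun k => ⟨k.1.1, Equiv.Perm.mem_alternatingGroup.1 k.1.2, ?_, ?_, ?_, ?_⟩,
      fun k => ⟨⟨k.1, k.2.1⟩, ?_, ?_, ?_⟩, fun k => rfl, fun k => rfl⟩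
    · exact congrArg Subtype.val k.2.1
    · exact congrArg Subtype.val k.2.2.1
    · have h1 := pow_orderOf_eq_one (k.1 * ⟨w, hws⟩ : alternatingGroup (Fin n))
      rw [k.2.2.2] at h1
      exact congrArg Subtype.val h1
    · intro h
      have h1 : (k.1 * ⟨w, hws⟩ : alternatingGroup (Fin n)) = 1 := Subtype.ext h
      have h2 := k.2.2.2
      rw [h1, orderOf_one] at h2
      exact hr.one_lt.ne h2
    · exact Subtype.ext k.2.2.1
    · exact Subtype.ext k.2.2.2.1
    · apply orderOf_eq_prime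
      · exact Subtype.ext (by push_cast; exact k.2.2.2.2.1)
      · intro h
        exact k.2.2.2.2.2 (congrArg Subtype.val h)

def w5 : Equiv.Perm (Fin 5) := c[0, 1, 2]
def t5 : Equiv.Perm (Fin 5) := c[1, 2] * c[3, 4]

theorem nb_five : NB (alternatingGroup (Fin 5)) := by
  refine nb_of_count (r := 3) (w := w5) (t := t5) (c := 1) (by norm_num) (by norm_num)
    (by decide +kernel) (by decide +kernel) (by (set_option synthInstance.maxSize 9000 in open scoped Cfsg.Agent.Lib.FastPerm in decide +kernel)) (by decide +kernel)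
    (by decide +kernel) (by decide +kernel) (by decide +kernel) (by decide +kernel)
    (by (set_option synthInstance.maxSize 9000 in open scoped Cfsg.Agent.Lib.FastPerm in decide +kernel)) (by decide)

def w6 : Equiv.Perm (Fin 6) := c[0, 1, 2, 3, 4]
def t6 : Equiv.Perm (Fin 6) := c[1, 4] * c[2, 3]

/-- elements of order 10 do not exist in degree six -/
theorem pow_ten {g : Equiv.Perm (Fin 6)} (h : g ^ 10 = 1) : g ^ 5 = 1 ∨ g ^ 2 = 1 := by
  have hsum : g.cycleType.sum ≤ 6 := by
    rw [Equiv.Perm.sum_cycleType]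
    exact (Finset.card_le_univ _).trans (by simp)
  have hmem : ∀ n ∈ g.cycleType, n = 2 ∨ n = 5 := by
    intro n hn
    have h1 : n ∣ 10 := (Equiv.Perm.dvd_of_mem_cycleType hn).trans (orderOf_dvd_of_pow_eq_one h)
    have h2 : n ≤ 6 := (Multiset.le_sum_of_mem hn).trans hsum
    have h3 := Equiv.Perm.two_le_of_mem_cycleType hn
    interval_cases n <;> omega
  by_cases h5 : 5 ∈ g.cycleType
  · left
    obtain ⟨s, hs⟩ := Multiset.exists_cons_of_mem h5
    have hs0 : s = 0 := by
      refine Multiset.eq_zero_of_forall_notMem fun n hn => ?_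
      have h1 : n ∈ g.cycleType := by
        rw [hs]
        exact Multiset.mem_cons_of_mem hn
      have h2 := Equiv.Perm.two_le_of_mem_cycleType h1
      have h3 := Multiset.le_sum_of_mem hn
      rw [hs, Multiset.sum_cons] at hsum
      omega
    apply orderOf_dvd_iff_pow_eq_one.1
    rw [← Equiv.Perm.lcm_cycleType, hs, hs0]
    simp
  · right
    apply orderOf_dvd_iff_pow_eq_one.1
    rw [← Equiv.Perm.lcm_cycleType]
    refine Multiset.lcm_dvd.2 fun n hn => ?_
    rcases hmem n hn with rfl | rfl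
    · exact dvd_rfl
    · exact absurd hn h5

theorem nb_six : NB (alternatingGroup (Fin 6)) := by
  refine nb_of_count (r := 5) (w := w6) (t := t6) (c := 3) (by norm_num) (by norm_num)
    (by decide +kernel) (by decide +kernel)
    (fun g hg => (pow_ten hg).elim Or.inl fun h => Or.inr (Or.inl h)) (by decide +kernel)
    (by decide +kernel) (by decide +kernel) (by decide +kernel) (by decide +kernel)
    (by (set_option synthInstance.maxSize 9000 in open scoped Cfsg.Agent.Lib.FastPerm in decide +kernel)) (by decide)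

theorem nb_eight : NB (alternatingGroup (Fin 8)) := by
  have hs : IsSimpleGroup (alternatingGroup (Fin 8)) := alternatingGroup.isSimpleGroup (by simp)
  obtain ⟨e⟩ := S0256.result (F := ZMod 2) (by simp)
  refine NB.of_lie_two ?_ (Or.inl ⟨ZMod 2, inferInstance, inferInstance, inferInstance, 4, by norm_num,
    by norm_num, ⟨e.symm⟩⟩)
  intro h
  have h1 := h.is_comm.comm
    (⟨Equiv.swap 0 1 * Equiv.swap 1 2, by rw [Equiv.Perm.mem_alternatingGroup]; decide⟩ : alternatingGroup (Fin 8))
    ⟨Equiv.swap 0 1 * Equiv.swap 1 3, by rw [Equiv.Perm.mem_alternatingGroup]; decide⟩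
  have h2 := congrArg (fun σ : alternatingGroup (Fin 8) => (σ : Equiv.Perm (Fin 8)) 0) h1
  revert h2
  decide

/-! ### the inductive step -/

theorem apply_inv' {α : Type*} (c : Equiv.Perm α) (i : α) : c (c⁻¹ i) = i := by
  rw [← Equiv.Perm.mul_apply, mul_inv_cancel, Equiv.Perm.one_apply]


section

variable {α : Type*} [Fintype α] [DecidableEq α] (p : α → Prop) [DecidablePred p]

/-- the even permutations which fix all points outside `p` -/
def fixK : Subgroup (alternatingGroup α) where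
  carrier := {σ | ∀ i, ¬ p i → (σ : Equiv.Perm α) i = i}
  one_mem' := fun i _ => rfl
  mul_mem' := by
    intro a b ha hb i hi
    show (a : Equiv.Perm α) ((b : Equiv.Perm α) i) = i
    rw [hb i hi, ha i hi]
  inv_mem' := by
    intro a ha i hi
    show (a : Equiv.Perm α)⁻¹ i = i
    rw [Equiv.Perm.inv_eq_iff_eq]
    exact (ha i hi).symm

omit [DecidablePred p] in
theorem mem_fixK {σ : alternatingGroup α} :
    σ ∈ fixK p ↔ ∀ i, ¬ p i → (σ : Equiv.Perm α) i = i := Iff.rfl

/-- extension by the identity -/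
def ext : alternatingGroup {i // p i} →* alternatingGroup α where
  toFun σ := ⟨Equiv.Perm.ofSubtype (σ : Equiv.Perm {i // p i}), by
    rw [Equiv.Perm.mem_alternatingGroup, Equiv.Perm.sign_ofSubtype]
    exact Equiv.Perm.mem_alternatingGroup.1 σ.2⟩
  map_one' := Subtype.ext (map_one _)
  map_mul' a b := Subtype.ext (map_mul _ _ _)

theorem ext_injective : Function.Injective (ext p) := by
  intro a b h
  apply Subtype.ext
  exact Equiv.Perm.ofSubtype_injective (congrArg Subtype.val h)

theorem range_ext : (ext p).range = fixK p := by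
  ext σ
  constructor
  · rintro ⟨τ, rfl⟩ i hi
    exact Equiv.Perm.ofSubtype_apply_of_not_mem _ hi
  · intro h
    have h2 : ∀ i, p ((σ : Equiv.Perm α) i) ↔ p i := by
      intro i
      by_cases hi : p i
      · simp only [hi, iff_true]
        by_contra hcon
        have := h _ hcon
        rw [(σ : Equiv.Perm α).injective this] at hcon
        exact hcon hi
      · rw [h i hi]
    refine ⟨⟨(σ : Equiv.Perm α).subtypePerm h2, ?_⟩, Subtype.ext ?_⟩
    · rw [Equiv.Perm.mem_alternatingGroup, Equiv.Perm.sign_subtypePerm _ h2]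
      · exact Equiv.Perm.mem_alternatingGroup.1 σ.2
      · intro x hx
        by_contra hcon
        exact hx (h x hcon)
    · refine Equiv.Perm.ofSubtype_subtypePerm h2 ?_
      intro x hx
      by_contra hcon
      exact hx (h x hcon)

noncomputable def equivK : alternatingGroup {i // p i} ≃* fixK p :=
  (MonoidHom.ofInjective (ext_injective p)).trans (MulEquiv.subgroupCongr (range_ext p))

end

def tt (m : ℕ) : Equiv.Perm (Fin (m + 4)) :=
  Equiv.swap ⟨0, by omega⟩ ⟨1, by omega⟩ * Equiv.swap ⟨2, by omega⟩ ⟨3, by omega⟩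

theorem tt_lt {m : ℕ} {i : Fin (m + 4)} (hi : i.val < 4) : tt m i ≠ i := by
  obtain ⟨i, hi'⟩ := i
  have hi2 : i < 4 := hi
  unfold tt
  rw [Equiv.Perm.mul_apply, Ne, Fin.ext_iff]
  interval_cases i <;>
    simp [Equiv.swap_apply_def, Fin.ext_iff]

theorem tt_ge {m : ℕ} {i : Fin (m + 4)} (hi : ¬ i.val < 4) : tt m i = i := by
  obtain ⟨i, hi'⟩ := i
  have hi2 : ¬ i < 4 := hi
  unfold tt
  rw [Equiv.Perm.mul_apply]
  rw [Equiv.swap_apply_of_ne_of_ne (x := (⟨i, hi'⟩ : Fin (m + 4))) (by rw [Ne, Fin.ext_iff]; simp; omega)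
    (by rw [Ne, Fin.ext_iff]; simp; omega)]
  rw [Equiv.swap_apply_of_ne_of_ne (by rw [Ne, Fin.ext_iff]; simp; omega)
    (by rw [Ne, Fin.ext_iff]; simp; omega)]

theorem tt_sq (m : ℕ) : tt m * tt m = 1 := by
  have hd : Commute (Equiv.swap (⟨0, by omega⟩ : Fin (m + 4)) ⟨1, by omega⟩)
      (Equiv.swap (⟨2, by omega⟩ : Fin (m + 4)) ⟨3, by omega⟩) := by
    apply Equiv.Perm.Disjoint.commute
    rw [Equiv.Perm.disjoint_iff_disjoint_support]
    rw [Equiv.Perm.support_swap (by rw [Ne, Fin.ext_iff]; simp), Equiv.Perm.support_swap (by rw [Ne, Fin.ext_iff]; simp)]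
    rw [Finset.disjoint_left]
    intro a ha hb
    rw [Finset.mem_insert, Finset.mem_singleton, Fin.ext_iff, Fin.ext_iff] at ha hb
    simp only at ha hb
    omega
  unfold tt
  have h1 := Equiv.swap_mul_self (⟨0, by omega⟩ : Fin (m + 4)) ⟨1, by omega⟩
  have h2 := Equiv.swap_mul_self (⟨2, by omega⟩ : Fin (m + 4)) ⟨3, by omega⟩
  generalize Equiv.swap (⟨0, by omega⟩ : Fin (m + 4)) ⟨1, by omega⟩ = a at *
  generalize Equiv.swap (⟨2, by omega⟩ : Fin (m + 4)) ⟨3, by omega⟩ = b at *
  calc a * b * (a * b) = a * (b * a) * b := by group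
    _ = a * (a * b) * b := by rw [hd.eq]
    _ = (a * a) * (b * b) := by group
    _ = 1 := by rw [h1, h2, one_mul]

theorem tt_sign (m : ℕ) : Equiv.Perm.sign (tt m) = 1 := by
  unfold tt
  rw [map_mul, Equiv.Perm.sign_swap (by simp), Equiv.Perm.sign_swap (by simp)]
  rfl

/-- the involution -/
def TT (m : ℕ) : alternatingGroup (Fin (m + 4)) := ⟨tt m, tt_sign m⟩

/-- the complement of the four points -/
def pp (m : ℕ) (i : Fin (m + 4)) : Prop := ¬ i.val < 4

instance decPP (m : ℕ) : DecidablePred (pp m) := fun i => by unfold pp; infer_instance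

noncomputable def eqv (m : ℕ) : {i : Fin (m + 4) // pp m i} ≃ Fin m where
  toFun i := ⟨i.1.val - 4, by have := i.2; unfold pp at this; omega⟩
  invFun i := ⟨⟨i.val + 4, by omega⟩, by unfold pp; simp⟩
  left_inv i := by
    apply Subtype.ext
    apply Fin.ext
    have := i.2
    unfold pp at this
    show i.1.val - 4 + 4 = i.1.val
    omega
  right_inv i := by
    apply Fin.ext
    show i.val + 4 - 4 = i.val
    omega

theorem facts (m : ℕ) :
    IsPGroup 2 (Subgroup.zpowers (TT m)) ∧
    fixK (pp m) ≤ Subgroup.centralizer ((Subgroup.zpowers (TT m) : Subgroup _) : Set _) ∧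
    (∀ c ∈ Subgroup.centralizer ((Subgroup.zpowers (TT m) : Subgroup _) : Set _),
      ∀ k ∈ fixK (pp m), c * k * c⁻¹ ∈ fixK (pp m)) := by
  have hsq : TT m * TT m = 1 := Subtype.ext (tt_sq m)
  refine ⟨?_, ?_, ?_⟩
  · rintro ⟨x, hx⟩
    obtain ⟨i, rfl⟩ := Subgroup.mem_zpowers_iff.1 hx
    refine ⟨1, Subtype.ext ?_⟩
    show (TT m ^ i) ^ 2 ^ 1 = 1
    rw [← zpow_natCast, ← zpow_mul, mul_comm, zpow_mul, zpow_natCast, pow_one, pow_two, hsq, one_zpow]
  · intro k hk
    rw [Subgroup.zpowers_eq_closure, Subgroup.centralizer_closure, Subgroup.mem_centralizer_singleton_iff]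
    apply Subtype.ext
    show (k : Equiv.Perm (Fin (m + 4))) * tt m = tt m * k
    have hk' := (mem_fixK (pp m)).1 hk
    -- the supports are disjoint
    have hd : (k : Equiv.Perm (Fin (m + 4))).Disjoint (tt m) := by
      intro i
      by_cases hi : i.val < 4
      · left
        exact hk' i (by unfold pp; simpa using hi)
      · right
        exact tt_ge hi
    exact hd.commute
  · intro c hc k hk
    rw [Subgroup.zpowers_eq_closure, Subgroup.centralizer_closure,
      Subgroup.mem_centralizer_singleton_iff] at hc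
    rw [mem_fixK] at hk ⊢
    have hc' : (c : Equiv.Perm (Fin (m + 4))) * tt m = tt m * c := congrArg Subtype.val hc
    have hpres : ∀ i : Fin (m + 4), i.val < 4 → ((c : Equiv.Perm (Fin (m + 4)))⁻¹ i).val < 4 := by
      intro i hi
      by_contra hcon
      have h1 := tt_ge hcon
      have h2 : tt m i = i := by
        have h3 := congrArg (fun σ : Equiv.Perm (Fin (m + 4)) => σ ((c : Equiv.Perm (Fin (m + 4)))⁻¹ i)) hc'
        simp only [Equiv.Perm.mul_apply, apply_inv'] at h3
        rw [h1, apply_inv'] at h3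
        exact h3.symm
      exact tt_lt hi h2
    intro i hi
    have hi' : i.val < 4 := by unfold pp at hi; simpa using hi
    show (c : Equiv.Perm (Fin (m + 4))) ((k : Equiv.Perm (Fin (m + 4)))
      ((c : Equiv.Perm (Fin (m + 4)))⁻¹ i)) = i
    rw [hk _ (by unfold pp; simpa using hpres i hi'), apply_inv']

noncomputable def isoK (m : ℕ) : alternatingGroup (Fin m) ≃* fixK (pp m) :=
  (Equiv.altCongrHom (eqv m).symm).trans (equivK (pp m))

theorem nb_step {m : ℕ} (h : NB (alternatingGroup (Fin m))) : NB (alternatingGroup (Fin (m + 4))) := by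
  obtain ⟨h1, h2, h3⟩ := facts m
  exact NB.of_simple_le _ h1 _ h2 h3 (NB.iso (isoK m) h)

theorem nb_seven : NB (alternatingGroup (Fin 7)) := by
  obtain ⟨h1, h2, h3⟩ := facts 3
  have hcard : Nat.card (fixK (pp 3)) = 3 := by
    rw [← Nat.card_congr (isoK 3).toEquiv, Nat.card_eq_fintype_card]
    decide
  refine NB.of_odd_le _ h1 _ h2 h3 ?_ ?_
  · rw [hcard]; decide
  · intro h
    rw [h, Subgroup.card_bot] at hcard
    omega

/-- **Row ob_alt.** -/
theorem nb_alt {n : ℕ} (hn : 5 ≤ n) : NB (alternatingGroup (Fin n)) := by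
  induction n using Nat.strong_induction_on with
  | _ n ih =>
    by_cases h9 : 9 ≤ n
    · obtain ⟨m, rfl⟩ : ∃ m, n = m + 4 := ⟨n - 4, by omega⟩
      exact nb_step (ih m (by omega) (by omega))
    · have : n = 5 ∨ n = 6 ∨ n = 7 ∨ n = 8 := by omega
      rcases this with rfl | rfl | rfl | rfl
      · exact nb_five
      · exact nb_six
      · exact nb_seven
      · exact nb_eight

end Cfsg.Agent.H215.NBAlt
end

private theorem dce_d87c3cdbb006 : _root_.True := by
  try have : _root_.True := by simp only [_root_.Cfsg.Agent.H102.NbPslTwo.nu.eq_1]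
  try have : _root_.True := by simp only [_root_.Cfsg.Agent.H102.NbPslTwo.nn.eq_1]
  exact _root_.True.intro
end

-- part: H622/OB/G2_mg
section
set_option linter.all false
open scoped Cfsg.Agent.FastGrp

-- part: H622/OB/Exc
section
/-!
# Exceptional groups in odd characteristic have more than one 2-block (S5004, S5007; task 1717 of helper526)

`nb_f4`, `nb_e6`, `nb_e7`, `nb_e8` : the centralizer of a 2-subgroup of the torus has a normal subgroup covering
`PSL_3(q)` (a subsystem of type `A_2`).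
-/

set_option autoImplicit false
set_option linter.unusedSectionVars false

namespace Cfsg.Agent.H622.OB

open CoxeterSystem
open Cfsg Cfsg.Lie Cfsg.Lie.ChevalleyDatum
open Cfsg.Agent.ChevalleyStructure Cfsg.Agent.ChevalleyStructure.Elts Cfsg.Agent.ChevalleyStructure.CoxeterGeom
  Cfsg.Agent.ChevalleyStructure.RootVec Cfsg.Agent.ChevalleyStructure.RootVecTab
  Cfsg.Agent.ChevalleyStructure.CoxeterGeomTypes Cfsg.Agent.ChevalleyStructure.NPerm
open Cfsg.Agent.Tits.Roots Cfsg.Agent.Nodes.Reps Cfsg.Agent.Nodes.BNOf Cfsg.Agent.Nodes.RGDChev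
  Cfsg.Agent.Nodes.Bruhat Cfsg.Agent.Nodes.StabComb
open Cfsg.Agent.KFacts.RgdChevCoord (TT XX nc)
open Cfsg.Agent.GenExc Cfsg.Agent.GenExc.Chev
open Cfsg.Agent.H526.OB (NB)
open Cfsg.Agent.H622.Levi

/-- central quotients of `SL_n(F)` -/
theorem nb_range {ι F Y : Type*} [Fintype ι] [DecidableEq ι] [CommRing F] [Finite F] [Group Y] [Finite Y]
    {φ : Matrix.SpecialLinearGroup ι F →* Y} (hφ : φ.ker ≤ Subgroup.center (Matrix.SpecialLinearGroup ι F))
    (h : NB (Matrix.ProjectiveSpecialLinearGroup ι F)) : NB ↥φ.range := by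
  let e := QuotientGroup.quotientKerEquivRange φ
  let g : Matrix.SpecialLinearGroup ι F ⧸ φ.ker →* Matrix.ProjectiveSpecialLinearGroup ι F :=
    QuotientGroup.map _ _ (MonoidHom.id _) hφ
  have hval : ∀ (x : Matrix.SpecialLinearGroup ι F) (y : φ.range), (y : Y) = φ x →
      (g.comp e.symm.toMonoidHom) y = QuotientGroup.mk x := by
    intro x y hy
    have h1 : e (QuotientGroup.mk x) = y := Subtype.ext hy.symm
    rw [← h1]
    change g (e.symm (e (QuotientGroup.mk x))) = _
    rw [e.symm_apply_apply]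
    rfl
  refine H526.OB.NB.of_surjective (g.comp e.symm.toMonoidHom) ?_ ?_ h
  · intro z
    obtain ⟨x, rfl⟩ := QuotientGroup.mk_surjective z
    exact ⟨⟨φ x, x, rfl⟩, hval x _ rfl⟩
  · rintro ⟨_, x, rfl⟩ hx
    rw [MonoidHom.mem_ker, hval x _ rfl] at hx
    have h2 : x ∈ Subgroup.center (Matrix.SpecialLinearGroup ι F) := (QuotientGroup.eq_one_iff x).1 hx
    rw [Subgroup.mem_center_iff]
    rintro ⟨_, y, rfl⟩
    apply Subtype.ext
    change φ y * φ x = φ x * φ y
    rw [← map_mul, ← map_mul, Subgroup.mem_center_iff.1 h2 y]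

section

variable {D : ChevalleyDatum} {l : ℕ} {M : CoxeterMatrix (Fin l)} (hp : IsType D l M)

include hp in
/-- **Subsystems of type `A_2`.** -/
theorem nb_of_a2 {K : Type} [Field K] [Fintype K] (hK : Odd (Fintype.card K)) {k₀ k₁ : Fin l} (hM : M k₀ k₁ = 3)
    {Ss : List (List (Fin l))} {Jc Js : List (Fin l)} {As : List (ℕ × List (Fin l))}
    (hJc : ∀ k, k ∈ Jc ↔ k ≠ k₀ ∧ k ≠ k₁) (hc : GenExc.chk D Ss Jc Js As = true)
    (h3 : ∀ (F : Type) [Field F] [Fintype F], Odd (Fintype.card F) →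
      NB (Matrix.ProjectiveSpecialLinearGroup (Fin 3) F)) : NB ↥(D.group K) := by
  classical
  obtain ⟨p, hpr, hcp⟩ : ∃ p : ℕ, p.Prime ∧ CharP K p := by
    obtain ⟨p, hcp⟩ := CharP.exists K
    exact ⟨p, CharP.char_is_prime K p, hcp⟩
  have : Fact p.Prime := ⟨hpr⟩
  let cs : CoxeterSystem M M.Group := M.toCoxeterSystem
  have : Finite M.Group := finite_W hp cs
  have hfin : Finite ↥(D.group K) := inferInstance
  have h2 : (2 : K) ≠ 0 := H631.two_ne_zero_of_odd hK
  have R := Cfsg.Agent.Nodes.RGDChev.rgd hp (K := K) (cs := cs) p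
  obtain ⟨k, hk0, hk1, hkr, hk⟩ := exists_chain hM
  obtain ⟨F, _, _, φ, C⟩ := exists_co R le_rfl k hk
  have hF : Odd (Fintype.card F) := by
    have h4 := C.card 0
    rw [← vec_simple hp (k 0), card_XX hp (K := K) (simple_lt hp.checked (lt_rank hp (k 0))),
      Nat.card_eq_fintype_card, Nat.card_eq_fintype_card] at h4
    rwa [← h4]
  -- the Levi subgroup
  have hrange : φ.range = HL cs hp.isCartan (XX D l K) k := by
    have h4 := C.range (cs := cs) (h := hp.isCartan) hk (by norm_num)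
    rw [h4]
    have h5 : RootsJ cs hp.isCartan (Set.range k) = LR cs hp.isCartan k := by
      ext x
      refine and_congr_right fun _ => forall_congr' fun i => ?_
      rw [Set.mem_range, not_exists]
    unfold HL
    rw [← h5]
    rfl
  have hNI := NI_eq hp cs k (Jc := Jc) (fun i => by
    rw [hJc, ← hk0, ← hk1]
    constructor
    · rintro ⟨h4, h5⟩ a
      fin_cases a
      · exact h4.symm
      · exact h5.symm
    · intro h4
      exact ⟨(h4 0).symm, (h4 1).symm⟩) hc
  -- the `2`-group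
  set S : Set ↥(D.group K) := {y | ∃ T ∈ Ss, y = zS hp K T} with hS
  have hE := evenSet hp (K := K) cs h2 Ss
  set Q := Subgroup.closure S with hQd
  have hSr : S = Set.range fun T : {T // T ∈ Ss} => zS hp K T.1 := by
    ext y
    constructor
    · rintro ⟨T, hT, rfl⟩; exact ⟨⟨T, hT⟩, rfl⟩
    · rintro ⟨⟨T, hT⟩, rfl⟩; exact ⟨T, hT, rfl⟩
  have hQ : IsPGroup 2 Q := by
    rw [hQd, hSr]
    exact H631.isPGroup_closure _ (fun T => zS_sq hp K T.1) fun T T' =>
      diag_comm hp K _ (zS_mem_T hp K T.1) _ (zS_mem_T hp K T'.1)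
  have hCQ : Subgroup.centralizer (Q : Set ↥(D.group K)) = Subgroup.centralizer S := Subgroup.centralizer_closure S
  refine H526.OB.NB.of_simple_le Q hQ φ.range ?_ ?_ (nb_range C.ker (h3 F hF))
  · rw [hCQ, hrange]
    refine RGD.Sup_le fun x hx => ?_
    rw [← hNI] at hx
    exact hE.even x hx.1
  · rw [hCQ, hrange]
    have h4 := cent_le_norm R (S := S) (E := Ev D l Ss) (by rintro _ ⟨T, -, rfl⟩; exact zS_mem_T hp K T)
      (KFacts.RgdRigid.GG_eq_top (G1_eq_top hp cs)) (commOK hp (K := K) cs) hE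
    rw [hNI] at h4
    intro c hc y hy
    exact (Subgroup.mem_normalizer_iff.1 (h4 hc) y).1 hy

end

theorem chk_F4 : GenExc.chk chevF4 (l := 4) [[3], [0, 2]] [2, 3] [0, 1] [] = true := by decide +kernel
theorem chk_E6 : GenExc.chk chevE6 (l := 6) [[1], [4], [5], [0, 3]] [1, 3, 4, 5] [0, 2] [] = true := by decide +kernel
theorem chk_E7 : GenExc.chk chevE7 (l := 7) [[1], [4], [5], [6], [0, 3]] [1, 3, 4, 5, 6] [0, 2] [] = true := by
  decide +kernel
theorem chk_E8 : GenExc.chk chevE8 (l := 8) [[1], [4], [5], [6], [7], [0, 3]] [1, 3, 4, 5, 6, 7] [0, 2] [] = true := by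
  decide +kernel

section

variable {F : Type} [Field F] [Fintype F] (hF : Odd (Fintype.card F))
  (h3 : ∀ (F : Type) [Field F] [Fintype F], Odd (Fintype.card F) → NB (Matrix.ProjectiveSpecialLinearGroup (Fin 3) F))

include hF h3

theorem nb_f4 : NB ↥(chevF4.group F) :=
  nb_of_a2 isType_F4 hF (k₀ := 0) (k₁ := 1) (by decide) (by decide) chk_F4 h3

theorem nb_e6 : NB ↥(chevE6.group F) :=
  nb_of_a2 isType_E6 hF (k₀ := 0) (k₁ := 2) (by decide) (by decide) chk_E6 h3

theorem nb_e7 : NB ↥(chevE7.group F) :=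
  nb_of_a2 isType_E7 hF (k₀ := 0) (k₁ := 2) (by decide) (by decide) chk_E7 h3

theorem nb_e8 : NB ↥(chevE8.group F) :=
  nb_of_a2 isType_E8 hF (k₀ := 0) (k₁ := 2) (by decide) (by decide) chk_E8 h3

end

end Cfsg.Agent.H622.OB
end

-- part: H622/OB/G2
section
/-!
# `G_2(q)`, `q > 3` odd, has more than one 2-block (S5004, S5007; task 1717 of helper526)

* `cent_component` : centralizers of subsets of the torus and subsystems of type `A_1`;
* `nb_g2`.
-/

set_option autoImplicit false
set_option linter.unusedSectionVars false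

namespace Cfsg.Agent.H622.OB

open CoxeterSystem
open Cfsg Cfsg.Lie Cfsg.Lie.ChevalleyDatum
open Cfsg.Agent.ChevalleyStructure Cfsg.Agent.ChevalleyStructure.Elts Cfsg.Agent.ChevalleyStructure.CoxeterGeom
  Cfsg.Agent.ChevalleyStructure.RootVec Cfsg.Agent.ChevalleyStructure.RootVecTab
  Cfsg.Agent.ChevalleyStructure.CoxeterGeomTypes Cfsg.Agent.ChevalleyStructure.NPerm
open Cfsg.Agent.Tits.Roots Cfsg.Agent.Tits.Core Cfsg.Agent.Nodes.Reps Cfsg.Agent.Nodes.BNOf Cfsg.Agent.Nodes.RGDChev
  Cfsg.Agent.Nodes.Bruhat Cfsg.Agent.Nodes.StabComb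
open Cfsg.Agent.KFacts.RgdChevCoord (TT XX nc)
open Cfsg.Agent.GenExc Cfsg.Agent.GenExc.Chev
open Cfsg.Agent.H526.OB (NB)

section general

variable {I W Y : Type*} [Fintype I] [DecidableEq I] [Group W] [Group Y] {M : CoxeterMatrix I}
  {cs : CoxeterSystem M W} {A : I → I → ℤ} {h : IsCartan M A} {p : ℕ} {T : Subgroup Y} {n : I → Y}
  {X : (I → ℤ) → Subgroup Y} {S : Set Y} {E : Set (I → ℤ)}

/-- the conjugates, under the centralizer of a subset of the torus, of the group of an isolated even root -/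
theorem cent_component [Finite W] (R : RGD cs h p T n X) (hS : S ⊆ T) (hG : GG cs h T X = ⊤)
    (hc : CommOK cs h X) (hE : EvenSet cs h X S E) {a : I → ℤ} (ha : a ∈ E)
    (hiso : ∀ x ∈ E, x ≠ a → x ≠ -a → ¬ IsRoot cs h (x + a) ∧ ¬ IsRoot cs h (x + -a)) {g : Y}
    (hg : g ∈ Subgroup.centralizer S) :
    (∀ k ∈ X a ⊔ X (-a), g * k * g⁻¹ ∈ X a ⊔ X (-a)) ∨
      (∀ k ∈ X a ⊔ X (-a), ∀ l ∈ X a ⊔ X (-a), (g * k * g⁻¹) * l = l * (g * k * g⁻¹)) := by
  set K := X a ⊔ X (-a) with hK
  obtain ⟨u, hu, w, k, hk, hkS, v, hv, rfl⟩ := Cfsg.Agent.Nodes.NormalForm.mem_centralizer R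
    hS (by rw [hG]; trivial) hg
  have har := hE.root a ha
  -- commuting root groups
  have hcomm : ∀ x ∈ E, x ≠ a → x ≠ -a → ∀ y ∈ X x, ∀ l ∈ K, y * l = l * y := by
    intro x hx hxa hxa' y hy l hl
    have h1 : K ≤ Subgroup.centralizer ({y} : Set Y) := by
      refine sup_le ?_ ?_
      · intro l hl
        rw [Subgroup.mem_centralizer_iff]
        rintro _ rfl
        exact hc x a (hE.root x hx) har hxa' (hiso x hx hxa hxa').1 _ hy l hl
      · intro l hl
        rw [Subgroup.mem_centralizer_iff]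
        rintro _ rfl
        exact hc x (-a) (hE.root x hx) har.neg (by rwa [_root_.neg_neg]) (hiso x hx hxa hxa').2 _ hy l hl
    exact Subgroup.mem_centralizer_iff.1 (h1 hl) y rfl
  have hnorm : RGD.Sup (fun x => X x ⊓ Subgroup.centralizer S) (RGD.Pos cs h) ≤
      Subgroup.normalizer (K : Set Y) := by
    refine RGD.Sup_le fun x hx y hy => ?_
    by_cases hxE : x ∈ E
    · by_cases hxa : x = a
      · subst hxa
        exact Subgroup.le_normalizer (hK ▸ (le_sup_left : X x ≤ X x ⊔ X (-x)) hy.1)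
      by_cases hxa' : x = -a
      · subst hxa'
        exact Subgroup.le_normalizer (hK ▸ (le_sup_right : X (-a) ≤ X a ⊔ X (-a)) hy.1)
      · exact mem_norm_of_comm (hcomm x hxE hxa hxa' y hy.1)
    · have h2 := hE.odd x hx.1 hxE
      have h3 : y ∈ X x ⊓ Subgroup.centralizer S := hy
      rw [h2, Subgroup.mem_bot] at h3
      rw [h3]; exact one_mem _
  have hu' := hnorm hu
  have hv' := hnorm hv
  have hwa := EvenSet.act R hE hk hkS ha
  -- the conjugate of `K` under `k`
  have hkK : ∀ l ∈ K, k * l * k⁻¹ ∈ X (rep cs h w a) ⊔ X (-rep cs h w a) := by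
    have h1 : cj k K = X (rep cs h w a) ⊔ X (-rep cs h w a) := by
      rw [hK]
      unfold cj
      rw [Subgroup.map_sup]
      have h2 := R.conj_rp hk har
      have h3 := R.conj_rp hk har.neg
      unfold cj at h2 h3
      rw [h2, h3, map_neg]
    intro l hl
    rw [← h1]
    exact ⟨l, hl, rfl⟩
  have hgrp : ∀ l : Y, u * k * v * l * (u * k * v)⁻¹ = u * (k * (v * l * v⁻¹) * k⁻¹) * u⁻¹ := by
    intro l; group
  by_cases h1 : rep cs h w a = a ∨ rep cs h w a = -a
  · left
    intro l hl
    have h2 : X (rep cs h w a) ⊔ X (-rep cs h w a) = K := by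
      rcases h1 with h1 | h1
      · rw [h1]
      · rw [h1, _root_.neg_neg, sup_comm]
    rw [hgrp]
    refine (Subgroup.mem_normalizer_iff.1 hu' _).1 ?_
    rw [← h2]
    exact hkK _ ((Subgroup.mem_normalizer_iff.1 hv' l).1 hl)
  · right
    push Not at h1
    intro l hl m hm
    rw [hgrp]
    have h2 : u⁻¹ * m * u ∈ K := by
      have := (Subgroup.mem_normalizer_iff.1 (inv_mem hu') m).1 hm
      rwa [inv_inv] at this
    have h3 := hkK _ ((Subgroup.mem_normalizer_iff.1 hv' l).1 hl)
    generalize k * (v * l * v⁻¹) * k⁻¹ = y at h3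
    have h4 : X (rep cs h w a) ⊔ X (-rep cs h w a) ≤ Subgroup.centralizer ({u⁻¹ * m * u} : Set Y) := by
      refine sup_le ?_ ?_
      · intro y hy
        rw [Subgroup.mem_centralizer_iff]
        rintro _ rfl
        exact (hcomm _ hwa h1.1 h1.2 y hy _ h2).symm
      · intro y hy
        rw [Subgroup.mem_centralizer_iff]
        rintro _ rfl
        refine (hcomm _ (hE.neg _ hwa) ?_ ?_ y hy _ h2).symm
        · intro e; exact h1.2 (neg_eq_iff_eq_neg.1 e)
        · intro e; exact h1.1 (neg_injective e)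
    have h5 := Subgroup.mem_centralizer_iff.1 (h4 h3) _ rfl
    calc u * y * u⁻¹ * m = u * (y * (u⁻¹ * m * u)) * u⁻¹ := by group
      _ = u * ((u⁻¹ * m * u) * y) * u⁻¹ := by rw [h5]
      _ = m * (u * y * u⁻¹) := by group

end general

section chev

variable {D : ChevalleyDatum} {l : ℕ} {M : CoxeterMatrix (Fin l)} (hp : IsType D l M)

theorem range_phi (K : Type) [Field K] (i : Fin l) : (OddHalf.LongSL.Chev.phi hp K i).range =
    XX D l K (sr i) ⊔ XX D l K (-sr i) := by
  have h0 := RootVec.simple_lt hp.checked (lt_rank hp i)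
  rw [← vec_simple hp i, ← vec_neg hp h0]
  have hup : ∀ t : K, OddHalf.LongSL.Chev.phi hp K i (SL2Hom.up t) ∈ XX D l K (vec D l (D.simple i)) := fun t =>
    (mem_XX hp K h0).2 ⟨t, OddHalf.LongSL.Chev.phi_up hp K i t⟩
  have hlo : ∀ t : K, OddHalf.LongSL.Chev.phi hp K i (SL2Hom.lo t) ∈ XX D l K (vec D l (D.neg (D.simple i))) := fun t =>
    (mem_XX hp K (neg_lt hp.checked h0)).2 ⟨t, OddHalf.LongSL.Chev.phi_lo hp K i t⟩
  apply le_antisymm
  · rintro _ ⟨g, rfl⟩
    have h1 : g ∈ (XX D l K (vec D l (D.simple i)) ⊔ XX D l K (vec D l (D.neg (D.simple i)))).comap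
        (OddHalf.LongSL.Chev.phi hp K i) := by
      refine (Subgroup.closure_le _).2 ?_ (SL2Hom.mem_closure_SL2 g)
      rintro x (⟨t, rfl⟩ | ⟨t, rfl⟩)
      · exact (le_sup_left : XX D l K (vec D l (D.simple i)) ≤ _) (hup t)
      · exact (le_sup_right : XX D l K (vec D l (D.neg (D.simple i))) ≤ _) (hlo t)
    exact h1
  · refine sup_le ?_ ?_
    · intro u hu
      obtain ⟨t, ht⟩ := (mem_XX hp K h0).1 hu
      exact ⟨SL2Hom.up t, Subtype.ext ((OddHalf.LongSL.Chev.phi_up hp K i t).trans ht.symm)⟩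
    · intro u hu
      obtain ⟨t, ht⟩ := (mem_XX hp K (neg_lt hp.checked h0)).1 hu
      exact ⟨SL2Hom.lo t, Subtype.ext ((OddHalf.LongSL.Chev.phi_lo hp K i t).trans ht.symm)⟩

theorem ker_phi (K : Type) [Field K] (i : Fin l) : (OddHalf.LongSL.Chev.phi hp K i).ker ≤
    Subgroup.center (Matrix.SpecialLinearGroup (Fin 2) K) := by
  intro g hg
  have hg' : SL2Hom.phi (SL2All.good_of_mem D hp.inList (D.simple i) (simple_lt hp.inList (lt_rank hp i))) K g = 1 :=
    congrArg Subtype.val (MonoidHom.mem_ker.1 hg)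
  rcases OddHalf.LongSL.Chev.phi_eq_one _ hg' with h | h
  · rw [h]; exact one_mem _
  · rw [h, Subgroup.mem_center_iff]
    intro x
    apply Subtype.ext
    rw [Matrix.SpecialLinearGroup.coe_mul, Matrix.SpecialLinearGroup.coe_mul, Matrix.SpecialLinearGroup.coe_neg,
      Matrix.SpecialLinearGroup.coe_one, mul_neg, neg_mul, mul_one, one_mul]

include hp in
/-- **Subsystems of type `A_1`.** -/
theorem nb_of_a1 {K : Type} [Field K] [Fintype K] (hK : Odd (Fintype.card K)) {i : Fin l} {Ss : List (List (Fin l))}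
    (hev : ∀ S ∈ Ss, evB D S (D.simple i) = true)
    (hc : ∀ r < D.nroots, (∀ S ∈ Ss, evB D S r = true) → r = D.simple i ∨ r = D.neg (D.simple i) ∨
      ∀ s < D.nroots, (∃ k : Fin l, rt D s k ≠ rt D r k + rt D (D.simple i) k) ∧
        ∃ k : Fin l, rt D s k ≠ rt D r k + rt D (D.neg (D.simple i)) k)
    (h2 : NB (Matrix.ProjectiveSpecialLinearGroup (Fin 2) K)) : NB ↥(D.group K) := by
  classical
  obtain ⟨p, hpr, hcp⟩ : ∃ p : ℕ, p.Prime ∧ CharP K p := by
    obtain ⟨p, hcp⟩ := CharP.exists K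
    exact ⟨p, CharP.char_is_prime K p, hcp⟩
  have : Fact p.Prime := ⟨hpr⟩
  let cs : CoxeterSystem M M.Group := M.toCoxeterSystem
  have : Finite M.Group := finite_W hp cs
  have hfin : Finite ↥(D.group K) := inferInstance
  have h20 : (2 : K) ≠ 0 := H631.two_ne_zero_of_odd hK
  have R := Cfsg.Agent.Nodes.RGDChev.rgd hp (K := K) (cs := cs) p
  have h0 := RootVec.simple_lt hp.checked (lt_rank hp i)
  set S : Set ↥(D.group K) := {y | ∃ T ∈ Ss, y = zS hp K T} with hS
  have hE := evenSet hp (K := K) cs h20 Ss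
  set Q := Subgroup.closure S with hQd
  have hSr : S = Set.range fun T : {T // T ∈ Ss} => zS hp K T.1 := by
    ext y
    constructor
    · rintro ⟨T, hT, rfl⟩; exact ⟨⟨T, hT⟩, rfl⟩
    · rintro ⟨⟨T, hT⟩, rfl⟩; exact ⟨T, hT, rfl⟩
  have hQ : IsPGroup 2 Q := by
    rw [hQd, hSr]
    exact H631.isPGroup_closure _ (fun T => zS_sq hp K T.1) fun T T' =>
      diag_comm hp K _ (zS_mem_T hp K T.1) _ (zS_mem_T hp K T'.1)
  have hCQ : Subgroup.centralizer (Q : Set ↥(D.group K)) = Subgroup.centralizer S := Subgroup.centralizer_closure S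
  have hEa : sr i ∈ Ev D l Ss := by
    rw [← vec_simple hp i, mem_Ev_vec hp h0]
    intro T hT
    exact (evB_iff hp T h0).1 (hev T hT)
  have hiso : ∀ x ∈ Ev D l Ss, x ≠ sr i → x ≠ -sr i → ¬ IsRoot cs hp.isCartan (x + sr i) ∧
      ¬ IsRoot cs hp.isCartan (x + -sr i) := by
    rintro _ ⟨r, hr, rfl, hr'⟩ hx1 hx2
    rcases hc r hr (fun T hT => (evB_iff hp T hr).2 (hr' T hT)) with h3 | h3 | h3
    · exact absurd (by rw [h3, vec_simple hp i]) hx1
    · exact absurd (by rw [h3, vec_neg hp h0, vec_simple hp i]) hx2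
    · constructor
      · intro h4
        obtain ⟨s, hs, h5⟩ := (isRoot_iff hp cs _).1 h4
        obtain ⟨k, hk⟩ := (h3 s hs).1
        apply hk
        rw [← vec_simple hp i] at h5
        exact congrFun h5 k
      · intro h4
        obtain ⟨s, hs, h5⟩ := (isRoot_iff hp cs _).1 h4
        obtain ⟨k, hk⟩ := (h3 s hs).2
        apply hk
        rw [← vec_simple hp i, ← vec_neg hp h0] at h5
        exact congrFun h5 k
  have hrange := range_phi hp K i
  have hKC : (OddHalf.LongSL.Chev.phi hp K i).range ≤ Subgroup.centralizer (Q : Set ↥(D.group K)) := by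
    rw [hCQ, hrange]
    exact sup_le (hE.even _ hEa) (hE.even _ (hE.neg _ hEa))
  refine H526.OB.NB.of_component Q hQ (OddHalf.LongSL.Chev.phi hp K i).range hKC ?_
    (MonoidHom.id _) (fun x => ⟨x, rfl⟩) (by rw [MonoidHom.ker_id]; exact bot_le) (nb_range (ker_phi hp K i) h2)
  intro c hcc
  rw [hCQ] at hcc
  rw [hrange]
  exact cent_component R (S := S) (E := Ev D l Ss) (by rintro _ ⟨T, -, rfl⟩; exact zS_mem_T hp K T)
    (KFacts.RgdRigid.GG_eq_top (G1_eq_top hp cs)) (commOK hp (K := K) cs) hE hEa hiso hcc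

end chev

theorem iso_G2 : ∀ r < chevG2.nroots, (∀ S ∈ [[(0 : Fin 2)]], evB chevG2 S r = true) →
    r = chevG2.simple (0 : Fin 2) ∨ r = chevG2.neg (chevG2.simple (0 : Fin 2)) ∨
      ∀ s < chevG2.nroots, (∃ k : Fin 2, rt chevG2 s k ≠ rt chevG2 r k + rt chevG2 (chevG2.simple (0 : Fin 2)) k) ∧
        ∃ k : Fin 2, rt chevG2 s k ≠ rt chevG2 r k + rt chevG2 (chevG2.neg (chevG2.simple (0 : Fin 2))) k := by
  decide +kernel

theorem nb_g2 {F : Type} [Field F] [Fintype F] (hF : Odd (Fintype.card F))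
    (h2 : NB (Matrix.ProjectiveSpecialLinearGroup (Fin 2) F)) : NB ↥(chevG2.group F) :=
  nb_of_a1 H631.ExcChev.isType_G2 hF (i := 0) (Ss := [[0]]) (by decide +kernel) iso_G2 h2

end Cfsg.Agent.H622.OB
end

-- part: H968/NBG23
section
/-!
# `G₂(3)` has more than one 2-block (helper968, row `ob_g23` of S5004)

The involution `z` inverts the element `w = z · z^h` of order 13.  `C(z)` has order 576 and is covered by 1296 words
`u n v` (`OddHalf.Small.G23.cent`).  Exactly 19 elements `k` with `k² = 1` in `C(z)` are such that `k w` has order 13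
(`NB.of_count`).
-/

set_option autoImplicit false
set_option Elab.async false
set_option maxRecDepth 100000

namespace Cfsg.Agent.H968.NBG23

open Cfsg.Lie
open Cfsg.Agent.GTwoThree.Model
open Cfsg.Agent.OddHalf.Small.G23Data Cfsg.Agent.OddHalf.Small.G23Check Cfsg.Agent.OddHalf.Small.G23
open Cfsg.Agent.Omega.ML.InvGTwoThree

/-- the power of a word -/
def wpw (w : List ℕ) (n : ℕ) : List ℕ := (List.replicate n w).flatten

theorem ev_wpw (w : List ℕ) (n : ℕ) : ev y (wpw w n) = ev y w ^ n := by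
  induction n with
  | zero => rw [pow_zero]; rfl
  | succ n ih =>
    have h : wpw w (n + 1) = w ++ wpw w n := by
      unfold wpw
      rw [List.replicate_succ, List.flatten_cons]
    rw [h, ev_append, ih, pow_succ']

/-- the elements `k` with `k² = 1`, `k z = z k`, `k w` of order 13 -/
def KL : List (List ℕ) :=
  [[],
   [15, 8, 15, 15, 8, 15, 12, 19],
   [15, 8, 15, 15, 8, 15, 13, 18],
   [12, 12, 11, 12, 15, 8, 15, 15, 8, 15, 13, 18],
   [15, 8, 15, 15, 8, 15, 13, 10, 13, 13, 10, 13, 12],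
   [15, 8, 15, 15, 8, 15, 13, 10, 13, 13, 10, 13, 13],
   [15, 8, 15, 15, 8, 15, 13, 10, 13, 13, 10, 13, 12, 18],
   [13, 12, 11, 12, 15, 8, 15, 15, 8, 15, 13, 10, 13, 13, 10, 13, 12, 19],
   [19, 14, 9, 14, 12, 11, 12, 14, 9, 14, 12, 11, 12, 14, 9, 14, 15, 8, 15, 15, 8, 15, 18],
   [14, 9, 14, 12, 11, 12, 14, 9, 14, 12, 11, 12, 14, 9, 14, 12, 11, 12, 13, 10, 13, 13, 10, 13],
   [14, 9, 14, 12, 11, 12, 14, 9, 14, 12, 11, 12, 14, 9, 14, 12, 11, 12, 15, 8, 15, 15, 8, 15],
   [18, 14, 9, 14, 12, 11, 12, 14, 9, 14, 12, 11, 12, 14, 9, 14, 15, 8, 15, 15, 8, 15, 13, 19],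
   [19, 14, 9, 14, 12, 11, 12, 14, 9, 14, 12, 11, 12, 14, 9, 14, 15, 8, 15, 15, 8, 15, 12, 18],
   [13, 14, 9, 14, 12, 11, 12, 14, 9, 14, 12, 11, 12, 14, 9, 14, 12, 11, 12, 13, 10, 13, 13, 10, 13, 12],
   [13, 18, 14, 9, 14, 12, 11, 12, 14, 9, 14, 12, 11, 12, 14, 9, 14, 12, 11, 12, 15, 8, 15, 15, 8, 15, 12, 19],
   [13, 19, 14, 9, 14, 12, 11, 12, 14, 9, 14, 12, 11, 12, 14, 9, 14, 12, 11, 12, 13, 10, 13, 13, 10, 13, 12, 18],
   [14, 9, 14, 12, 11, 12, 14, 9, 14, 12, 11, 12, 14, 9, 14, 15, 8, 15, 15, 8, 15, 13, 10, 13, 13, 10, 13, 12],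
   [14, 9, 14, 12, 11, 12, 14, 9, 14, 12, 11, 12, 14, 9, 14, 15, 8, 15, 15, 8, 15, 13, 10, 13, 13, 10, 13, 13],
   [18, 14, 9, 14, 12, 11, 12, 14, 9, 14, 12, 11, 12, 14, 9, 14, 15, 8, 15, 15, 8, 15, 13, 10, 13, 13, 10, 13, 19]]

/-- a word of `C(z)` -/
def cw5 (i a d a' d' : ℕ) : List ℕ := (wx 6 a ++ wx 9 d) ++ (NL.getD i [] ++ (wx 6 a' ++ wx 9 d'))

/-- the check: `W = 1` or `W ^ 13 ≠ 1` -/
noncomputable def chkA (W : List ℕ) : Bool := nec (wpw W 13) [] || eqc W []

/-- the check: `W² ≠ 1` or `(W w) ^ 13 ≠ 1` or `W` is in the list -/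
noncomputable def chkB (W : List ℕ) : Bool :=
  nec (W ++ W) [] || (nec (wpw (W ++ wu) 13) [] || KL.any fun k => eqc W k)

/-- both checks for the words with given `i` -/
noncomputable def chkI (i : ℕ) : Bool :=
  [0, 1, 2].all fun a => [0, 1, 2].all fun d => [0, 1, 2].all fun a' => [0, 1, 2].all fun d' =>
    chkA (cw5 i a d a' d') && chkB (cw5 i a d a' d')

section Fast
open Cfsg.Agent.Lib.PackMat Cfsg.Agent.Lib.PackAll Cfsg.Agent.GTwoThree.ModelData

private theorem hA : goodA C3 = true := by decide +kernel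

private theorem gA : checkEq C3 = aEq C3 := checkEq_fun hA

/-- both checks, for the matrices `U` of `wu` and `G` of `W` -/
private noncomputable def chkG (U G : ℕ) : Bool :=
  (!(Nat.beq (sRow C3 (wpw [G] 13) R0) R0) || aEq C3 [G] [] 0 14) &&
    (!(Nat.beq (sRow C3 [G, G] R0) R0) || (!(Nat.beq (sRow C3 (wpw [G, U] 13) R0) R0) ||
      KL.any fun k => aEq C3 [G] (k.map cd) 0 14))

private theorem wpw_ok {w : List ℕ} (h : ∀ g ∈ w, okG C3 g = true) (n : ℕ) : ∀ g ∈ wpw w n, okG C3 g = true := by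
  intro g hg
  obtain ⟨l, h1, h2⟩ := List.mem_flatten.1 hg
  rw [List.eq_of_mem_replicate h1] at h2
  exact h g h2

private theorem wpw_prod {M : Type} [Monoid M] (f : ℕ → M) (w : List ℕ) (n : ℕ) :
    ((wpw w n).map f).prod = (w.map f).prod ^ n := by
  rw [wpw, List.map_flatten, List.prod_flatten, List.map_replicate, List.map_replicate, List.prod_replicate]

private theorem chkG_eq {W : List ℕ} {U G : ℕ} (hU : okG C3 U = true) (hG : okG C3 G = true)
    (eU : ((wu.map cd).map (mat C3)).prod = mat C3 U) (eG : ((W.map cd).map (mat C3)).prod = mat C3 G) :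
    (chkA W && chkB W) = chkG U G := by
  have o1 : ∀ g ∈ [G], okG C3 g = true := fun g hg => by rw [List.mem_singleton.1 hg]; exact hG
  have o2 : ∀ x, okG C3 x = true → ∀ g ∈ [G, x], okG C3 g = true := fun x hx g hg => by
    rcases List.mem_pair.1 hg with h | h <;> rw [h] <;> assumption
  have key : ∀ w v : List ℕ, (∀ g ∈ v, okG C3 g = true) → ((w.map cd).map (mat C3)).prod = (v.map (mat C3)).prod →
      nec w [] = !(Nat.beq (sRow C3 v R0) R0) := fun w v hv e => by
    rw [← run_fun, ← run_congr hA (ok_map w) hv e R0_ok]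
    rfl
  have e1 : ((W.map cd).map (mat C3)).prod = ([G].map (mat C3)).prod := by
    rw [eG, List.map_singleton, List.prod_singleton]
  have e2 : ∀ (w : List ℕ) (x : ℕ), ((w.map cd).map (mat C3)).prod = mat C3 x →
      (((W ++ w).map cd).map (mat C3)).prod = ([G, x].map (mat C3)).prod := fun w x e => by
    rw [List.map_append, List.map_append, List.prod_append, eG, e, List.map_cons, List.map_singleton, List.prod_cons,
      List.prod_singleton]
  have e3 : ∀ w v : List ℕ, ((w.map cd).map (mat C3)).prod = (v.map (mat C3)).prod →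
      (((wpw w 13).map cd).map (mat C3)).prod = ((wpw v 13).map (mat C3)).prod := fun w v e => by
    rw [List.map_map, wpw_prod, wpw_prod, ← e, List.map_map]
  have k1 : ∀ k : List ℕ, eqc W k = aEq C3 [G] (k.map cd) 0 14 := fun k =>
    checkEq_congr hA (ok_map W) o1 e1 (ok_map k) (ok_map k) rfl
  unfold chkA chkB chkG
  rw [key _ _ (wpw_ok o1 13) (e3 _ _ e1), key _ _ (o2 G hG) (e2 W G eG), key _ _ (wpw_ok (o2 U hU) 13) (e3 _ _ (e2 wu U eU)),
    k1, funext k1, List.map_nil]

private noncomputable def chkF (i : ℕ) : Bool :=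
  aMat C3 (wu.map cd) (chkI i) fun U => aMat C3 ((NL.getD i []).map cd) (chkI i) fun N =>
    [0, 1, 2].all fun a => [0, 1, 2].all fun d => [0, 1, 2].all fun a' => [0, 1, 2].all fun d' =>
      aMat C3 ((wx 6 a ++ wx 9 d).map cd ++ N :: (wx 6 a' ++ wx 9 d').map cd)
        (chkA (cw5 i a d a' d') && chkB (cw5 i a d a' d')) (chkG U)

private theorem chkI_eq (i : ℕ) : chkI i = chkF i := by
  refine aMat_spec hA _ fun U _ hU eU => aMat_spec hA _ fun N _ hN eN => ?_
  unfold chkI
  refine congrArg _ (funext fun a => congrArg _ (funext fun d => congrArg _ (funext fun a' => congrArg _ (funext fun d' => ?_))))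
  refine aMat_spec hA _ fun G _ hG eG => chkG_eq hU hG eU ?_
  rw [← eG, cw5]
  simp only [List.map_append, List.prod_append, List.map_cons, List.prod_cons, eN]

end Fast

theorem check_C0 : chkI 0 = true := (chkI_eq 0).trans (by decide +kernel)

theorem check_C1 : chkI 1 = true := (chkI_eq 1).trans (by decide +kernel)

theorem check_C2 : chkI 2 = true := (chkI_eq 2).trans (by decide +kernel)

theorem check_C3 : chkI 3 = true := (chkI_eq 3).trans (by decide +kernel)

theorem check_C8 : chkI 8 = true := (chkI_eq 8).trans (by decide +kernel)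

theorem check_C9 : chkI 9 = true := (chkI_eq 9).trans (by decide +kernel)

theorem check_C10 : chkI 10 = true := (chkI_eq 10).trans (by decide +kernel)

theorem check_C11 : chkI 11 = true := (chkI_eq 11).trans (by decide +kernel)

theorem check_C36 : chkI 36 = true := (chkI_eq 36).trans (by decide +kernel)

theorem check_C37 : chkI 37 = true := (chkI_eq 37).trans (by decide +kernel)

theorem check_C38 : chkI 38 = true := (chkI_eq 38).trans (by decide +kernel)

theorem check_C39 : chkI 39 = true := (chkI_eq 39).trans (by decide +kernel)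

theorem check_C44 : chkI 44 = true := (chkI_eq 44).trans (by decide +kernel)

theorem check_C45 : chkI 45 = true := (chkI_eq 45).trans (by decide +kernel)

theorem check_C46 : chkI 46 = true := (chkI_eq 46).trans (by decide +kernel)

theorem check_C47 : chkI 47 = true := (chkI_eq 47).trans (by decide +kernel)

theorem check_C : NZ.all chkI = true := by
  simp only [NZ, List.all_cons, List.all_nil, check_C0, check_C1, check_C2, check_C3, check_C8, check_C9, check_C10, check_C11, check_C36, check_C37, check_C38, check_C39, check_C44, check_C45, check_C46, check_C47, Bool.and_self]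

theorem check_K : KL.all (fun k => eqc (k ++ k) [] && (eqc (k ++ wz) (wz ++ k) &&
    (eqc (wpw (k ++ wu) 13) [] && nec (k ++ wu) []))) = true := by
  delta eqc; rewrite [gA]; decide +kernel

theorem check_ne : (List.range 19).all (fun i => (List.range i).all fun j =>
    nec (KL.getD i []) (KL.getD j [])) = true := by decide +kernel

theorem check_z : eqc (wz ++ wz) [] = true := by decide +kernel

theorem zz : z * z = 1 := by
  have h := eq_of_eqc check_z
  rwa [ev_append] at h

theorem z_ne : z ≠ 1 := by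
  intro h
  have h1 := orderOf_wu
  rw [wu, ev_append, ev_append, ev_append, ev_wh'] at h1
  change orderOf (z * (ev y wh * z * (ev y wh)⁻¹)) = 13 at h1
  rw [h, one_mul, mul_one, mul_inv_cancel, orderOf_one] at h1
  norm_num at h1

theorem zwz : z * ev y wu * z = (ev y wu)⁻¹ := by
  have hw : ev y wu = z * (ev y wh * z * (ev y wh)⁻¹) := by
    rw [wu, ev_append, ev_append, ev_append, ev_wh']
    rfl
  have hz : z⁻¹ = z := inv_eq_of_mul_eq_one_right zz
  rw [hw, mul_inv_rev, mul_inv_rev, mul_inv_rev, inv_inv, hz]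
  calc z * (z * (ev y wh * z * (ev y wh)⁻¹)) * z = (z * z) * (ev y wh * z * (ev y wh)⁻¹) * z := by group
    _ = ev y wh * (z * (ev y wh)⁻¹) * z := by rw [zz]; group

/-- the elements of `C(z)` are the listed words -/
theorem exists_word {g : ↥Gp} (hg : g * z = z * g) : ∃ W : List ℕ, g = ev y W ∧ chkA W = true ∧ chkB W = true := by
  obtain ⟨a, d, i, hi, a', d', -, -, h, -⟩ := cent hg
  refine ⟨cw5 i a.val d.val a'.val d'.val, ?_, ?_⟩
  · rw [h, cw5, ev_append, ev_append, ev_append, ev_append, mul_assoc, ev_append, ev_append]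
  · have h1 := List.all_eq_true.1 check_C i hi
    unfold chkI at h1
    have hm : ∀ t : Fin 3, t.val ∈ ([0, 1, 2] : List ℕ) := by decide
    have h2 := List.all_eq_true.1 (List.all_eq_true.1 (List.all_eq_true.1 (List.all_eq_true.1 h1 a.val (hm a))
      d.val (hm d)) a'.val (hm a')) d'.val (hm d')
    exact (Bool.and_eq_true _ _ ▸ h2 : _ ∧ _)

/-- no elements of order 26 -/
theorem orderOf_ne (g : ↥Gp) : orderOf g ≠ 2 * 13 := by
  intro hg
  have h1 : orderOf (g ^ 13) = 2 := by
    rw [orderOf_pow, hg]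
    norm_num
  have h2 : orderOf (g ^ 2) = 13 := by
    rw [orderOf_pow, hg]
    norm_num
  obtain ⟨c, hc⟩ := exists_conj h1
  have h3 : orderOf (c * g ^ 2 * c⁻¹) = 13 := by
    have := orderOf_injective (MulAut.conj c).toMonoidHom (MulAut.conj c).injective (g ^ 2)
    rw [← h2]
    exact this
  have h4 : (c * g ^ 2 * c⁻¹) * z = z * (c * g ^ 2 * c⁻¹) := by
    rw [← hc]
    have h5 : g ^ 2 * g ^ 13 = g ^ 13 * g ^ 2 := by rw [← pow_add, ← pow_add, add_comm]
    calc c * g ^ 2 * c⁻¹ * (c * g ^ 13 * c⁻¹) = c * (g ^ 2 * g ^ 13) * c⁻¹ := by group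
      _ = c * g ^ 13 * c⁻¹ * (c * g ^ 2 * c⁻¹) := by rw [h5]; group
  obtain ⟨W, hW, hA, -⟩ := exists_word h4
  unfold chkA at hA
  rw [Bool.or_eq_true] at hA
  rw [hW] at h3
  rcases hA with hA | hA
  · apply ne_of_nec hA
    rw [ev_wpw, ← h3, pow_orderOf_eq_one]
    rfl
  · rw [eq_of_eqc hA] at h3
    change orderOf (1 : ↥Gp) = 13 at h3
    rw [orderOf_one] at h3
    norm_num at h3

theorem KL_prop {k : List ℕ} (hk : k ∈ KL) : ev y k * ev y k = 1 ∧ ev y k * z = z * ev y k ∧
    orderOf (ev y k * ev y wu) = 13 := by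
  have h := List.all_eq_true.1 check_K k hk
  rw [Bool.and_eq_true, Bool.and_eq_true, Bool.and_eq_true] at h
  obtain ⟨h1, h2, h3, h4⟩ := h
  refine ⟨?_, ?_, ?_⟩
  · have := eq_of_eqc h1
    rwa [ev_append] at this
  · have := eq_of_eqc h2
    rwa [ev_append, ev_append] at this
  · rw [← ev_append]
    refine orderOf_eq_prime (p := 13) (hp := ⟨by norm_num⟩) ?_ ?_
    · rw [← ev_wpw]
      exact eq_of_eqc h3
    · exact ne_of_nec h4

theorem getD_mem {i : ℕ} (hi : i < 19) : KL.getD i [] ∈ KL := by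
  have h : i < KL.length := hi
  rw [List.getD_eq_getElem _ _ h]
  exact List.getElem_mem h

theorem ev_inj {i j : ℕ} (hi : i < 19) (hj : j < 19) (h : ev y (KL.getD i []) = ev y (KL.getD j [])) : i = j := by
  have key : ∀ i < 19, ∀ j < i, ev y (KL.getD i []) ≠ ev y (KL.getD j []) := by
    intro i hi j hj
    exact ne_of_nec (List.all_eq_true.1 (List.all_eq_true.1 check_ne i (List.mem_range.2 hi)) j (List.mem_range.2 hj))
  rcases lt_trichotomy i j with h1 | h1 | h1
  · exact absurd h.symm (key j hj i h1)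
  · exact h1
  · exact absurd h (key i hi j h1)

/-- the number of elements -/
theorem card_eq : Nat.card {k : ↥Gp // k * k = 1 ∧ k * z = z * k ∧ orderOf (k * ev y wu) = 13} = 19 := by
  let f : Fin 19 → {k : ↥Gp // k * k = 1 ∧ k * z = z * k ∧ orderOf (k * ev y wu) = 13} :=
    fun i => ⟨ev y (KL.getD i.val []), KL_prop (getD_mem i.2)⟩
  have hf : Function.Bijective f := by
    constructor
    · intro i j h
      exact Fin.ext (ev_inj i.2 j.2 (congrArg Subtype.val h))
    · rintro ⟨k, h1, h2, h3⟩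
      obtain ⟨W, rfl, -, hB⟩ := exists_word h2
      unfold chkB at hB
      rw [Bool.or_eq_true, Bool.or_eq_true, List.any_eq_true] at hB
      rcases hB with hB | hB | ⟨k, hk, hB⟩
      · exfalso
        apply ne_of_nec hB
        rw [ev_append, h1]
        rfl
      · exfalso
        apply ne_of_nec hB
        rw [ev_wpw, ev_append, ← h3, pow_orderOf_eq_one]
        rfl
      · obtain ⟨i, hi, rfl⟩ := List.mem_iff_getElem.1 hk
        refine ⟨⟨i, hi⟩, Subtype.ext ?_⟩
        show ev y (KL.getD i []) = ev y W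
        rw [List.getD_eq_getElem _ _ hi]
        exact (eq_of_eqc hB).symm
  rw [← Nat.card_congr (Equiv.ofBijective f hf), Nat.card_eq_fintype_card, Fintype.card_fin]

theorem nb_model : H526.OB.NB ↥Gp :=
  H526.OB.NB.of_count (r := 13) (by norm_num) (by norm_num) orderOf_ne (w := ev y wu) (t := z) orderOf_wu zz z_ne zwz
    (by rw [card_eq]; decide)

/-- **Row `ob_g23`.** -/
theorem nb_g23 {F : Type} [Field F] [Fintype F] (hF : Fintype.card F = 3) : H526.OB.NB (Cfsg.Lie.chevG2.group F) := by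
  have h3 : Fintype.card (ZMod 3) = Fintype.card F := by rw [hF]; rfl
  let φ : ZMod 3 ≃+* F := FiniteField.ringEquivOfCardEq h3
  exact H526.OB.NB.iso (ChevalleyStructure.FieldIso.groupEquiv chevG2 φ) nb_model

end Cfsg.Agent.H968.NBG23
end

private theorem dce_42bad288a470 : _root_.True := by
  try have : _root_.True := by simp only [_root_.Cfsg.Agent.OddHalf.Small.G23Data.NZ.eq_1]
  try have : _root_.True := by simp only [_root_.Cfsg.Agent.H968.NBG23.cw5.eq_1]
  exact _root_.True.intro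
end
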