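import Mathlib
import Cfsg.Agent.H101.NilpPerm
import Cfsg.Agent.OddOrderLocal.CNBasic
import Cfsg.Agent.Cit.TwoPF.Cheap
set_option linter.all false

-- part: H102/NilpAlt
section
/-!
# Nilpotent subgroups of alternating groups

A nilpotent subgroup of `Perm Ω` of even order is contained in a nilpotent subgroup of `Perm Ω`
with odd permutations.
-/

set_option autoImplicit false
set_option linter.style.haveILetI false

namespace Cfsg.Agent.H102.NilpAlt

open Equiv Equiv.Perm MulAction
open scoped Pointwise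

/-- A nilpotent subgroup is the product of a 2-group and of a group of odd order, which commute. -/
theorem exists_parts {G : Type*} [Group G] [Finite G] (N : Subgroup G) (hN : Group.IsNilpotent N) :
    ∃ P H : Subgroup G, P ≤ N ∧ H ≤ N ∧ IsPGroup 2 P ∧ Odd (Nat.card H) ∧
      (∀ x ∈ P, ∀ y ∈ H, x * y = y * x) ∧ (∀ x ∈ N, ∃ a ∈ P, ∃ b ∈ H, x = a * b) := by
  haveI : Fact (Nat.Prime 2) := ⟨Nat.prime_two⟩
  obtain ⟨P⟩ : Nonempty (Sylow 2 N) := inferInstance
  haveI hPn : (P : Subgroup N).Normal := inferInstance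
  have hcop : Nat.Coprime (Nat.card (P : Subgroup N)) (P : Subgroup N).index := P.card_coprime_index
  obtain ⟨K, hK⟩ := Subgroup.exists_right_complement'_of_coprime hcop
  have hKc : Nat.card K = (P : Subgroup N).index := hK.symm.index_eq_card.symm
  have hKodd : Odd (Nat.card K) := by
    rw [hKc, ← Nat.not_even_iff_odd, even_iff_two_dvd]
    exact P.not_dvd_index
  refine ⟨(P : Subgroup N).map N.subtype, K.map N.subtype, Subgroup.map_subtype_le _,
    Subgroup.map_subtype_le _, P.isPGroup'.map _, ?_, ?_, ?_⟩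
  · rwa [Subgroup.card_subtype]
  · rintro _ ⟨x, hx, rfl⟩ _ ⟨y, hy, rfl⟩
    have h1 : (orderOf x).Coprime (orderOf y) := by
      obtain ⟨k, hk⟩ := (IsPGroup.iff_orderOf.1 P.isPGroup') ⟨x, hx⟩
      rw [Subgroup.orderOf_mk] at hk
      rw [hk]
      apply Nat.Coprime.pow_left
      rw [Nat.coprime_two_left]
      exact Odd.of_dvd_nat hKodd (Subgroup.orderOf_dvd_natCard _ hy)
    exact congrArg Subtype.val (OddOrderLocal.CNBasic.commute_of_coprime_orderOf h1).eq
  · intro x hx
    obtain ⟨⟨a, b⟩, hab⟩ := hK.2 ⟨x, hx⟩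
    exact ⟨(a : N), ⟨a, a.2, rfl⟩, (b : N), ⟨b, b.2, rfl⟩, (congrArg Subtype.val hab).symm⟩

/-- Two commuting nilpotent subgroups are contained in a nilpotent subgroup. -/
theorem exists_nilpotent_sup {G : Type*} [Group G] (S H : Subgroup G) (hS : Group.IsNilpotent S)
    (hH : Group.IsNilpotent H) (hc : ∀ x ∈ S, ∀ y ∈ H, x * y = y * x) :
    ∃ D : Subgroup G, Group.IsNilpotent D ∧ S ≤ D ∧ H ≤ D := by
  let f : S × H →* G := S.subtype.noncommCoprod H.subtype (fun x y => hc x x.2 y y.2)
  refine ⟨f.range, ?_, ?_, ?_⟩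
  · exact Group.nilpotent_of_surjective f.rangeRestrict f.rangeRestrict_surjective
  · intro x hx
    exact ⟨(⟨x, hx⟩, 1), mul_one x⟩
  · intro x hx
    exact ⟨(1, ⟨x, hx⟩), one_mul x⟩

/-- An element of `p`-power order has a conjugate in a given Sylow subgroup. -/
theorem exists_conj_mem_sylow {G : Type*} [Group G] [Finite G] {p : ℕ} [hp : Fact p.Prime]
    (S : Sylow p G) {x : G} {k : ℕ} (hx : x ^ p ^ k = 1) : ∃ g : G, g * x * g⁻¹ ∈ S := by
  have hP : IsPGroup p (Subgroup.zpowers x) := by
    obtain ⟨j, -, hj⟩ := (Nat.dvd_prime_pow hp.out).1 (orderOf_dvd_of_pow_eq_one hx)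
    apply IsPGroup.of_card (n := j)
    rw [Nat.card_zpowers, hj]
  obtain ⟨Q, hQ⟩ := hP.exists_le_sylow
  obtain ⟨g, hg⟩ := MulAction.exists_smul_eq G Q S
  refine ⟨g, ?_⟩
  rw [← hg]
  have h1 : (MulAut.conj g) • x ∈ (MulAut.conj g) • (Q : Subgroup G) :=
    Subgroup.smul_mem_pointwise_smul x (MulAut.conj g) _ (hQ (Subgroup.mem_zpowers x))
  exact h1

/-- The odd involution commuting with a group of odd order. -/
theorem exists_odd_commuting {Ω : Type*} [Fintype Ω] [DecidableEq Ω] (H : Subgroup (Perm Ω))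
    (hH : Odd (Nat.card H)) {z : Perm Ω} (hz : z * z = 1) (hz1 : z ≠ 1)
    (hc : ∀ h ∈ H, z * h = h * z) :
    ∃ τ : Perm Ω, τ * τ = 1 ∧ sign τ = -1 ∧ ∀ h ∈ H, τ * h = h * τ := by
  classical
  have hzz : ∀ x, z (z x) = x := fun x => by
    have := congrArg (fun σ : Perm Ω => σ x) hz
    exact this
  have hzh : ∀ h ∈ H, ∀ x, z (h x) = h (z x) := fun h hh x => by
    have := congrArg (fun σ : Perm Ω => σ x) (hc h hh)
    exact this
  obtain ⟨ω, hω⟩ : ∃ ω, z ω ≠ ω := by
    by_contra hcon
    push Not at hcon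
    exact hz1 (Equiv.ext hcon)
  -- the orbit
  have hX : z ω ∉ orbit H ω := by
    rintro ⟨⟨h, hh⟩, hhω⟩
    have hhω' : h ω = z ω := hhω
    have h1 : h (h ω) = ω := by
      rw [hhω', ← hzh h hh, hhω', hzz]
    have h2 : ∀ k : ℕ, (h ^ (2 * k)) ω = ω := by
      intro k
      induction k with
      | zero => rfl
      | succ k ih =>
        have : h ^ (2 * (k + 1)) = h ^ (2 * k) * (h * h) := by
          rw [← sq, ← pow_add]
          congr 1
        rw [this]
        show (h ^ (2 * k)) (h (h ω)) = ω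
        rw [h1, ih]
    obtain ⟨k, hk⟩ : Odd (orderOf h) := Odd.of_dvd_nat hH (Subgroup.orderOf_dvd_natCard _ hh)
    have h3 : h ^ (2 * (k + 1)) = h := by
      have : 2 * (k + 1) = orderOf h + 1 := by omega
      rw [this, pow_succ, pow_orderOf_eq_one, one_mul]
    have h4 := h2 (k + 1)
    rw [h3, hhω'] at h4
    exact hω h4
  have hXodd : Odd (Nat.card (orbit H ω)) := by
    have h1 := MulAction.card_orbit_mul_card_stabilizer_eq_card_group H ω
    have h2 : Fintype.card (orbit H ω) ∣ Fintype.card H := ⟨_, h1.symm⟩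
    rw [← Nat.card_eq_fintype_card, ← Nat.card_eq_fintype_card] at h2
    exact Odd.of_dvd_nat hH h2
  set Y : Finset Ω := Finset.univ.filter (fun x => x ∈ orbit H ω ∨ z x ∈ orbit H ω) with hY
  have hYmem : ∀ x, x ∈ Y ↔ x ∈ orbit H ω ∨ z x ∈ orbit H ω := by
    intro x
    simp [hY]
  have hYz : ∀ x, z x ∈ Y ↔ x ∈ Y := by
    intro x
    rw [hYmem, hYmem, hzz]
    exact or_comm
  have horb : ∀ h ∈ H, ∀ x, h x ∈ orbit H ω ↔ x ∈ orbit H ω := by
    intro h hh x
    constructor
    · intro h1
      have h2 := MulAction.mem_orbit_of_mem_orbit (⟨h, hh⟩ : H)⁻¹ h1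
      have h3 : (⟨h, hh⟩ : H)⁻¹ • h x = x := inv_smul_smul (⟨h, hh⟩ : H) x
      rwa [h3] at h2
    · intro h1
      exact MulAction.mem_orbit_of_mem_orbit (⟨h, hh⟩ : H) h1
  have hYh : ∀ h ∈ H, ∀ x, h x ∈ Y ↔ x ∈ Y := by
    intro h hh x
    rw [hYmem, hYmem, hzh h hh, horb h hh, horb h hh]
  let f : Ω → Ω := fun x => if x ∈ Y then z x else x
  have hf1 : ∀ x, x ∈ Y → f x = z x := fun x hx => if_pos hx
  have hf2 : ∀ x, x ∉ Y → f x = x := fun x hx => if_neg hx
  have hf : Function.Involutive f := by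
    intro x
    by_cases hx : x ∈ Y
    · rw [hf1 x hx, hf1 _ ((hYz x).2 hx), hzz]
    · rw [hf2 x hx, hf2 x hx]
  refine ⟨hf.toPerm, ?_, ?_, ?_⟩
  · ext x
    exact hf x
  · have hsq : hf.toPerm * hf.toPerm = 1 := by
      ext x
      exact hf x
    rw [(Cfsg.Agent.Cit.TwoPF.sign_of_sq hsq).1]
    have hzne : ∀ x ∈ Y, z x ≠ x := by
      have key : ∀ x ∈ orbit H ω, z x ≠ x := by
        rintro _ ⟨⟨h, hh⟩, rfl⟩ h1
        have h2 : z (h ω) = h ω := h1
        rw [hzh h hh] at h2
        exact hω (h.injective h2)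
      intro x hx
      rcases (hYmem x).1 hx with h1 | h1
      · exact key x h1
      · intro h2
        rw [h2] at h1
        exact key x h1 h2
    have hsupp : hf.toPerm.support = Y := by
      ext x
      rw [Equiv.Perm.mem_support]
      show f x ≠ x ↔ x ∈ Y
      by_cases hx : x ∈ Y
      · rw [hf1 x hx]
        exact ⟨fun _ => hx, fun _ => hzne x hx⟩
      · rw [hf2 x hx]
        exact ⟨fun h => absurd rfl h, fun h => absurd h hx⟩
    have hcard : Y.card = 2 * Nat.card (orbit H ω) := by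
      have h1 : Y = (Finset.univ.filter (fun x => x ∈ orbit H ω)) ∪
          (Finset.univ.filter (fun x => z x ∈ orbit H ω)) := by
        ext x
        simp [hY]
      have h2 : Disjoint (Finset.univ.filter (fun x => x ∈ orbit H ω))
          (Finset.univ.filter (fun x => z x ∈ orbit H ω)) := by
        rw [Finset.disjoint_left]
        intro x hx hx'
        simp only [Finset.mem_filter, Finset.mem_univ, true_and] at hx hx'
        obtain ⟨⟨h, hh⟩, rfl⟩ := hx
        have h3 : z (h ω) ∈ orbit H ω := hx'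
        rw [hzh h hh, horb h hh] at h3
        exact hX h3
      have h3 : (Finset.univ.filter (fun x => x ∈ orbit H ω)).card = Nat.card (orbit H ω) := by
        rw [← Fintype.card_subtype, ← Nat.card_eq_fintype_card]
      have h4 : (Finset.univ.filter (fun x => z x ∈ orbit H ω)).card =
          (Finset.univ.filter (fun x => x ∈ orbit H ω)).card := by
        apply Finset.card_bij (fun x _ => z x)
        · intro x hx
          simp only [Finset.mem_filter, Finset.mem_univ, true_and] at hx ⊢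
          exact hx
        · intro x _ y _ hxy
          exact z.injective hxy
        · intro y hy
          simp only [Finset.mem_filter, Finset.mem_univ, true_and] at hy
          exact ⟨z y, by simp only [Finset.mem_filter, Finset.mem_univ, true_and]; rwa [hzz], hzz y⟩
      rw [h1, Finset.card_union_of_disjoint h2, h4, h3]
      ring
    rw [hsupp, hcard, Nat.mul_div_cancel_left _ two_pos]
    exact Odd.neg_one_pow hXodd
  · intro h hh
    ext x
    show f (h x) = h (f x)
    by_cases hx : x ∈ Y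
    · rw [hf1 x hx, hf1 _ ((hYh h hh x).2 hx), hzh h hh]
    · rw [hf2 x hx, hf2 _ (fun h' => hx ((hYh h hh x).1 h'))]

/-- **Dichotomy.** -/
theorem dichotomy {Ω : Type*} [Fintype Ω] [DecidableEq Ω] (N : Subgroup (Perm Ω))
    (hN : Group.IsNilpotent N) (hodd : ¬ Odd (Nat.card N)) :
    ∃ D : Subgroup (Perm Ω), Group.IsNilpotent D ∧ N ≤ D ∧ ∃ d ∈ D, sign d = -1 := by
  haveI : Fact (Nat.Prime 2) := ⟨Nat.prime_two⟩
  obtain ⟨P, H, hPN, hHN, hP, hH, hc, hdec⟩ := exists_parts N hN
  have hPC : P ≤ Subgroup.centralizer (H : Set (Perm Ω)) := by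
    intro x hx
    rw [Subgroup.mem_centralizer_iff]
    intro y hy
    exact (hc x hx y hy).symm
  set C := Subgroup.centralizer (H : Set (Perm Ω)) with hC
  obtain ⟨S, hS⟩ := (hP.comap_of_injective C.subtype C.subtype_injective :
    IsPGroup 2 (P.subgroupOf C)).exists_le_sylow
  have hSnil : Group.IsNilpotent ((S : Subgroup C).map C.subtype) :=
    (S.isPGroup'.map C.subtype).isNilpotent
  have hHnil : Group.IsNilpotent H := by
    have : Group.IsNilpotent (H.subgroupOf N) := inferInstance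
    exact Group.nilpotent_of_surjective (Subgroup.subgroupOfEquivOfLe hHN).toMonoidHom
      (Subgroup.subgroupOfEquivOfLe hHN).surjective
  obtain ⟨D, hD, hSD, hHD⟩ := exists_nilpotent_sup ((S : Subgroup C).map C.subtype) H hSnil hHnil (by
    rintro _ ⟨x, -, rfl⟩ y hy
    exact (Subgroup.mem_centralizer_iff.1 x.2 y hy).symm)
  have hPD : P ≤ D := fun x hx => hSD ⟨⟨x, hPC hx⟩, hS hx, rfl⟩
  refine ⟨D, hD, ?_, ?_⟩
  · intro x hx
    obtain ⟨a, ha, b, hb, rfl⟩ := hdec x hx
    exact D.mul_mem (hPD ha) (hHD hb)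
  · -- the 2-part is not trivial
    have hP2 : 2 ∣ Nat.card P := by
      by_contra h2
      apply hodd
      have h3 : P = ⊥ := by
        rw [← Subgroup.card_eq_one]
        obtain ⟨k, hk⟩ := (IsPGroup.iff_card (p := 2) (G := P)).1 hP
        rw [hk] at h2 ⊢
        cases k with
        | zero => rfl
        | succ k => exact absurd (dvd_pow_self 2 (by omega)) h2
      have h4 : N ≤ H := by
        intro x hx
        obtain ⟨a, ha, b, hb, rfl⟩ := hdec x hx
        rw [h3, Subgroup.mem_bot] at ha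
        rwa [ha, one_mul]
      rw [le_antisymm h4 hHN]
      exact hH
    obtain ⟨⟨z, hzP⟩, hz⟩ := exists_prime_orderOf_dvd_card' 2 hP2
    rw [Subgroup.orderOf_mk] at hz
    have hz1 : z ≠ 1 := by
      rintro rfl
      rw [orderOf_one] at hz
      omega
    have hzz : z * z = 1 := by
      have := pow_orderOf_eq_one z
      rwa [hz, sq] at this
    obtain ⟨τ, h1, h2, h3⟩ := exists_odd_commuting H hH hzz hz1 (fun h hh => hc z hzP h hh)
    have hτC : τ ∈ C := by
      rw [hC, Subgroup.mem_centralizer_iff]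
      intro y hy
      exact (h3 y hy).symm
    obtain ⟨g, hg⟩ := exists_conj_mem_sylow S (x := (⟨τ, hτC⟩ : C)) (k := 1) (by
      rw [pow_one, sq]
      exact Subtype.ext h1)
    refine ⟨_, hSD ⟨_, hg, rfl⟩, ?_⟩
    show sign ((g : Perm Ω) * τ * (g : Perm Ω)⁻¹) = -1
    rw [Equiv.Perm.sign_mul, Equiv.Perm.sign_mul, Equiv.Perm.sign_inv,
      mul_comm (sign (g : Perm Ω)), mul_assoc, Int.units_mul_self, mul_one]
    exact h2

end Cfsg.Agent.H102.NilpAlt
end

-- part: H102/NilpOdd
section
/-!
# Nilpotent permutation groups of odd order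
-/

set_option autoImplicit false
set_option linter.style.haveILetI false

namespace Cfsg.Agent.H102.NilpOdd

open Nat MulAction Cfsg.Agent.H101.NilpArith Cfsg.Agent.H101.NilpPerm

universe u v

theorem le_three_pow {k : ℕ} : 2 * k + 1 ≤ 3 ^ k := by
  induction k with
  | zero => simp
  | succ k ih =>
    rw [pow_succ]
    omega

/-- `f m ≤ 3 ^ k` for `m = 2 k + 1`. -/
theorem f_odd_prime_pow {p : ℕ} (hp : p.Prime) (hp2 : p ≠ 2) (a : ℕ) :
    ∃ k, p ^ a = 2 * k + 1 ∧ f (p ^ a) ≤ 3 ^ k := by
  obtain ⟨j, hj⟩ : Odd p := hp.odd_of_ne_two hp2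
  induction a with
  | zero => exact ⟨0, by simp, by simp [f_one]⟩
  | succ a ih =>
    obtain ⟨k, hk, hf⟩ := ih
    refine ⟨k + j * p ^ a, ?_, ?_⟩
    · rw [pow_succ]
      nth_rewrite 2 [hj]
      rw [mul_add, mul_one]
      nth_rewrite 2 [hk]
      ring
    · rw [f_prime_pow_succ hp, pow_add, pow_mul]
      apply Nat.mul_le_mul hf
      apply Nat.pow_le_pow_left
      rw [hj]
      exact le_three_pow

theorem f_odd {m : ℕ} (hm : Odd m) : ∃ k, m = 2 * k + 1 ∧ f m ≤ 3 ^ k := by
  induction m using Nat.recOnPosPrimePosCoprime with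
  | zero => exact absurd hm (by decide)
  | one => exact ⟨0, by simp, by simp [f_one]⟩
  | prime_pow p n hp hn =>
    apply f_odd_prime_pow hp
    rintro rfl
    exact (Nat.not_even_iff_odd.2 hm) (Nat.even_pow.2 ⟨even_two, by omega⟩)
  | coprime a b ha hb hab iha ihb =>
    rw [Nat.odd_mul] at hm
    obtain ⟨k, hk, hfk⟩ := iha hm.1
    obtain ⟨l, hl, hfl⟩ := ihb hm.2
    refine ⟨k + l + 2 * (k * l), ?_, ?_⟩
    · rw [hk, hl]; ring
    · rw [f_mul hab, pow_add, pow_add]
      calc f a * f b ≤ 3 ^ k * 3 ^ l := Nat.mul_le_mul hfk hfl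
        _ ≤ 3 ^ k * 3 ^ l * 3 ^ (2 * (k * l)) := Nat.le_mul_of_pos_right _ (by positivity)

theorem f_prime {p : ℕ} (hp : p.Prime) : f p = p := by
  have h := f_prime_pow_succ hp 0
  simpa [f_one] using h

/-- The bound for nilpotent groups of odd order. -/
def B (n : ℕ) : ℕ :=
  if n = 7 then 9 else if n = 11 then 81 else if n = 13 then 243 else if n = 15 then 729 else
    3 ^ ((n - 1) / 2)

theorem B_le (n : ℕ) : B n ≤ 3 ^ ((n - 1) / 2) := by
  unfold B
  split_ifs with h1 h2 h3 h4
  · subst h1; norm_num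
  · subst h2; norm_num
  · subst h3; norm_num
  · subst h4; norm_num
  · exact le_rfl

theorem f_mul_B_le {m n : ℕ} (hm : Odd m) (hmn : m ≤ n) : f m * B (n - m) ≤ B n := by
  by_cases h16 : 16 ≤ n
  · obtain ⟨k, hk, hf⟩ := f_odd hm
    have hB : B n = 3 ^ ((n - 1) / 2) := by
      unfold B
      rw [if_neg (by omega), if_neg (by omega), if_neg (by omega), if_neg (by omega)]
    rw [hB]
    calc f m * B (n - m) ≤ 3 ^ k * 3 ^ ((n - m - 1) / 2) := Nat.mul_le_mul hf (B_le _)
      _ = 3 ^ (k + (n - m - 1) / 2) := by rw [pow_add]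
      _ ≤ 3 ^ ((n - 1) / 2) := Nat.pow_le_pow_right (by norm_num) (by omega)
  · have hf3 := f_three
    have hf9 := f_nine
    have hf5 : f 5 = 5 := f_prime (by norm_num)
    have hf7 : f 7 = 7 := f_prime (by norm_num)
    have hf11 : f 11 = 11 := f_prime (by norm_num)
    have hf13 : f 13 = 13 := f_prime (by norm_num)
    have hf15 : f 15 = 15 := by
      have := f_mul (u := 3) (v := 5) (by norm_num)
      rwa [hf3, hf5] at this
    have hf1 := f_one
    have hm15 : m ≤ 15 := by omega
    have : m = 1 ∨ m = 3 ∨ m = 5 ∨ m = 7 ∨ m = 9 ∨ m = 11 ∨ m = 13 ∨ m = 15 := by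
      obtain ⟨k, hk⟩ := hm
      omega
    rcases this with rfl | rfl | rfl | rfl | rfl | rfl | rfl | rfl
    · rw [hf1]
      interval_cases n <;> decide
    · rw [hf3]
      interval_cases n <;> decide
    · rw [hf5]
      interval_cases n <;> decide
    · rw [hf7]
      interval_cases n <;> decide
    · rw [hf9]
      interval_cases n <;> decide
    · rw [hf11]
      interval_cases n <;> decide
    · rw [hf13]
      interval_cases n <;> decide
    · rw [hf15]
      interval_cases n <;> decide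

theorem odd_card_orbit {N : Type u} [Group N] [Finite N] (hodd : Odd (Nat.card N)) {Ω : Type v}
    [MulAction N Ω] (a : Ω) : Odd (Nat.card (orbit N a)) := by
  apply Odd.of_dvd_nat hodd
  rw [Nat.card_congr (MulAction.orbitEquivQuotientStabilizer N a)]
  exact Subgroup.index_dvd_card _

theorem index_ker_le_B (N : Type u) [Group N] [Finite N] [hN : Group.IsNilpotent N]
    (hodd : Odd (Nat.card N)) :
    ∀ (n : ℕ) (Ω : Type v) [Finite Ω] [MulAction N Ω], Nat.card Ω = n →
      (MulAction.toPermHom N Ω).ker.index ≤ B n := by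
  intro n
  induction n using Nat.strong_induction_on with
  | _ n ih =>
    intro Ω _ _ hcard
    rcases isEmpty_or_nonempty Ω with hE | ⟨⟨a⟩⟩
    · have : (MulAction.toPermHom N Ω).ker = ⊤ := by
        rw [eq_top_iff]
        intro g _
        rw [MonoidHom.mem_ker]
        exact Subsingleton.elim _ _
      rw [this, Subgroup.index_top]
      have : n = 0 := by rw [← hcard]; exact Nat.card_of_isEmpty
      subst this
      decide
    · have hfpos : 0 < f (Nat.card (orb N a)) := by
        rcases Nat.eq_zero_or_pos (f (Nat.card (orb N a))) with h0 | h0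
        · exfalso
          unfold f at h0
          rw [Finsupp.prod, Finset.prod_eq_zero_iff] at h0
          obtain ⟨p, hp, h⟩ := h0
          exact pow_ne_zero _
            (Nat.prime_of_mem_primeFactors (by simpa using hp)).ne_zero h
        · exact h0
      have h1 : (MulAction.toPermHom N (orb N a)).ker.index ≤ f (Nat.card (orb N a)) :=
        Nat.le_of_dvd hfpos (index_ker_dvd_f N (orb N a))
      have hadd := card_add_card_compl (orb N a)
      have hpos : 0 < Nat.card (orb N a) := Nat.card_pos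
      have h2 := ih (Nat.card ((orb N a)ᶜ : SubMulAction N Ω)) (by omega)
        ((orb N a)ᶜ : SubMulAction N Ω) rfl
      have he : Nat.card ((orb N a)ᶜ : SubMulAction N Ω) = n - Nat.card (orb N a) := by omega
      rw [he] at h2
      calc _ ≤ _ := index_ker_le_mul (orb N a)
        _ ≤ f (Nat.card (orb N a)) * B (n - Nat.card (orb N a)) := Nat.mul_le_mul h1 h2
        _ ≤ B n := f_mul_B_le (by rw [card_orb]; exact odd_card_orbit hodd a) (by omega)

theorem card_le_B {Ω : Type v} [Finite Ω] (N : Subgroup (Equiv.Perm Ω))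
    (hN : Group.IsNilpotent N) (hodd : Odd (Nat.card N)) : Nat.card N ≤ B (Nat.card Ω) := by
  rw [← index_ker_subgroup N]
  exact index_ker_le_B N hodd _ Ω rfl

theorem two_mul_three_pow_le {k : ℕ} (h : 8 ≤ k) : 2 * 3 ^ k ≤ T (2 * k) := by
  induction k using Nat.strong_induction_on with
  | _ k ih =>
    by_cases h12 : 12 ≤ k
    · obtain ⟨m, rfl⟩ : ∃ m, k = m + 4 := ⟨k - 4, by omega⟩
      have h1 := ih m (by omega) (by omega)
      calc 2 * 3 ^ (m + 4) = 2 * 3 ^ m * 81 := by ring
        _ ≤ T (2 * m) * T 8 := Nat.mul_le_mul h1 (le_trans (by norm_num) T_eight)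
        _ ≤ T (2 * m + 8) := T_add _ _
        _ = T (2 * (m + 4)) := by ring_nf
    · have h16 : 2 ^ 15 ≤ T 16 := le_T_of_dvd (by decide)
      have h18 : 2 ^ 16 ≤ T 18 := le_T_of_dvd (by decide)
      have h20 : 2 ^ 18 ≤ T 20 := le_T_of_dvd (by decide)
      have h22 : 2 ^ 19 ≤ T 22 := le_T_of_dvd (by decide)
      interval_cases k <;> norm_num at * <;> omega

theorem two_B_le {n : ℕ} (h2 : 2 ≤ n) (hn : n % 4 ≠ 3) (h5 : n ≠ 5) (h6 : n ≠ 6) (h9 : n ≠ 9) :
    2 * B n ≤ T n := by
  by_cases h17 : 17 ≤ n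
  · calc 2 * B n ≤ 2 * 3 ^ ((n - 1) / 2) := Nat.mul_le_mul_left _ (B_le n)
      _ ≤ T (2 * ((n - 1) / 2)) := two_mul_three_pow_le (by omega)
      _ ≤ T n := T_mono (by omega)
  · have t2 : 2 ^ 1 ≤ T 2 := le_T_of_dvd (by decide)
    have t4 : 2 ^ 3 ≤ T 4 := le_T_of_dvd (by decide)
    have t8 : 2 ^ 7 ≤ T 8 := le_T_of_dvd (by decide)
    have t10 : 2 ^ 8 ≤ T 10 := le_T_of_dvd (by decide)
    have t12 : 2 ^ 10 ≤ T 12 := le_T_of_dvd (by decide)
    have t13 : 2 ^ 10 ≤ T 13 := le_T_of_dvd (by decide)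
    have t14 : 2 ^ 11 ≤ T 14 := le_T_of_dvd (by decide)
    have t16 : 2 ^ 15 ≤ T 16 := le_T_of_dvd (by decide)
    have b : ∀ k, B k = if k = 7 then 9 else if k = 11 then 81 else if k = 13 then 243 else
      if k = 15 then 729 else 3 ^ ((k - 1) / 2) := fun k => rfl
    interval_cases n <;> first | omega | (rw [b]; norm_num at *; omega)

theorem two_B_le' {n : ℕ} (h7 : 7 ≤ n) (hn : n % 4 = 3) : 2 * B n ≤ 3 * T (n - 3) := by
  by_cases h19 : 19 ≤ n
  · obtain ⟨k, rfl⟩ : ∃ k, n = 2 * k + 3 := ⟨(n - 3) / 2, by omega⟩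
    have e1 : 2 * k + 3 - 3 = 2 * k := by omega
    have e2 : (2 * k + 3 - 1) / 2 = k + 1 := by omega
    have h1 := two_mul_three_pow_le (k := k) (by omega)
    calc 2 * B (2 * k + 3) ≤ 2 * 3 ^ (k + 1) := by
          have := B_le (2 * k + 3)
          rw [e2] at this
          exact Nat.mul_le_mul_left _ this
      _ = 3 * (2 * 3 ^ k) := by ring
      _ ≤ 3 * T (2 * k + 3 - 3) := by rw [e1]; exact Nat.mul_le_mul_left _ h1
  · have t4 : 2 ^ 3 ≤ T 4 := le_T_of_dvd (by decide)
    have t8 : 2 ^ 7 ≤ T 8 := le_T_of_dvd (by decide)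
    have t12 : 2 ^ 10 ≤ T 12 := le_T_of_dvd (by decide)
    have b : ∀ k, B k = if k = 7 then 9 else if k = 11 then 81 else if k = 13 then 243 else
      if k = 15 then 729 else 3 ^ ((k - 1) / 2) := fun k => rfl
    interval_cases n <;> first | omega | (rw [b]; norm_num at *; omega)

end Cfsg.Agent.H102.NilpOdd
end

-- part: H102/NilpAltCard
section
/-!
# Orders of nilpotent subgroups of alternating groups
-/

set_option autoImplicit false
set_option linter.style.haveILetI false

namespace Cfsg.Agent.H102.NilpAltCard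

open Nat Equiv Equiv.Perm Cfsg.Agent.H101.NilpArith Cfsg.Agent.H101.NilpPerm

/-- the Sylow 2-subgroups of the alternating group -/
theorem two_mul_card_sylow {n : ℕ} (hn : 2 ≤ n) (P : Sylow 2 (alternatingGroup (Fin n))) :
    2 * Nat.card P = T n := by
  haveI : Nontrivial (Fin n) := Fin.nontrivial_iff_two_le.2 hn
  have h := two_mul_nat_card_alternatingGroup (α := Fin n)
  rw [Nat.card_perm, Nat.card_fin] at h
  rw [P.card_eq_multiplicity, T, ← h, Nat.factorization_mul (by norm_num) Nat.card_pos.ne',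
    Finsupp.add_apply, Nat.Prime.factorization_self Nat.prime_two, pow_add, pow_one]

/-- A subgroup with an odd permutation has a subgroup of index 2 of even permutations. -/
theorem card_inf {n : ℕ} (D : Subgroup (Perm (Fin n))) (hD : ∃ d ∈ D, sign d = -1) :
    2 * Nat.card (D ⊓ alternatingGroup (Fin n) : Subgroup (Perm (Fin n))) = Nat.card D := by
  obtain ⟨d, hd, hs⟩ := hD
  let f : D →* ℤˣ := sign.comp D.subtype
  have hf : Function.Surjective f := by
    intro u
    rcases Int.units_eq_one_or u with rfl | rfl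
    · exact ⟨1, map_one f⟩
    · exact ⟨⟨d, hd⟩, hs⟩
  have h1 := Subgroup.index_ker f
  rw [MonoidHom.range_eq_top.2 hf] at h1
  have h2 : Nat.card (⊤ : Subgroup ℤˣ) = 2 := by
    rw [Subgroup.card_top, Nat.card_eq_fintype_card]
    rfl
  have h3 := Subgroup.card_mul_index f.ker
  rw [h1, h2] at h3
  rw [← h3, mul_comm]
  congr 1
  have h4 : Nat.card f.ker = Nat.card (f.ker.map D.subtype) := (Subgroup.card_subtype _ _).symm
  rw [h4]
  congr 1
  have : f.ker.map D.subtype = D ⊓ alternatingGroup (Fin n) := by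
    ext x
    constructor
    · rintro ⟨y, hy, rfl⟩
      exact ⟨y.2, hy⟩
    · rintro ⟨hx, hx'⟩
      exact ⟨⟨x, hx⟩, hx', rfl⟩
  rw [this]

/-- the dichotomy in terms of orders -/
theorem two_mul_card_le {n : ℕ} (N : Subgroup (alternatingGroup (Fin n)))
    (hN : Group.IsNilpotent N) (hodd : ¬ Odd (Nat.card N)) :
    ∃ D : Subgroup (Perm (Fin n)), Group.IsNilpotent D ∧
      N.map (alternatingGroup (Fin n)).subtype ≤ D ∧ (∃ d ∈ D, sign d = -1) ∧
      2 * Nat.card N ≤ Nat.card D ∧ Nat.card D ≤ G n := by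
  have e := N.equivMapOfInjective (alternatingGroup (Fin n)).subtype Subtype.val_injective
  have hcard : Nat.card (N.map (alternatingGroup (Fin n)).subtype) = Nat.card N :=
    Nat.card_congr e.symm.toEquiv
  have hnil : Group.IsNilpotent (N.map (alternatingGroup (Fin n)).subtype) :=
    Group.nilpotent_of_surjective e.toMonoidHom e.surjective
  obtain ⟨D, hD, hle, hd⟩ := NilpAlt.dichotomy _ hnil (by rwa [hcard])
  refine ⟨D, hD, hle, hd, ?_, ?_⟩
  · rw [← card_inf D hd, ← hcard]
    apply Nat.mul_le_mul_left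
    apply Subgroup.card_le_of_le
    apply le_inf hle
    rintro _ ⟨x, -, rfl⟩
    exact x.2
  · have := card_le_G D hD
    rwa [Nat.card_fin] at this

/-- odd order -/
theorem card_le_B {n : ℕ} (N : Subgroup (alternatingGroup (Fin n)))
    (hN : Group.IsNilpotent N) (hodd : Odd (Nat.card N)) : Nat.card N ≤ NilpOdd.B n := by
  have e := N.equivMapOfInjective (alternatingGroup (Fin n)).subtype Subtype.val_injective
  have hcard : Nat.card (N.map (alternatingGroup (Fin n)).subtype) = Nat.card N :=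
    Nat.card_congr e.symm.toEquiv
  have hnil : Group.IsNilpotent (N.map (alternatingGroup (Fin n)).subtype) :=
    Group.nilpotent_of_surjective e.toMonoidHom e.surjective
  have := NilpOdd.card_le_B _ hnil (by rwa [hcard])
  rwa [hcard, Nat.card_fin] at this

theorem main_even {n : ℕ} (hn : n % 4 ≠ 3) (h5 : n ≠ 5) (h6 : n ≠ 6) (h9 : n ≠ 9)
    (N : Subgroup (alternatingGroup (Fin n))) (hN : Group.IsNilpotent N)
    (P : Sylow 2 (alternatingGroup (Fin n))) :
    Nat.card N ≤ Nat.card P := by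
  by_cases h2 : 2 ≤ n
  · have hP := two_mul_card_sylow h2 P
    by_cases hodd : Odd (Nat.card N)
    · have h1 := card_le_B N hN hodd
      have h3 := NilpOdd.two_B_le h2 hn h5 h6 h9
      omega
    · obtain ⟨D, -, -, -, h1, h3⟩ := two_mul_card_le N hN hodd
      have h4 : G n = T n := by
        unfold G
        rw [if_neg hn]
      omega
  · have hs : Subsingleton (Perm (Fin n)) := by
      have : Subsingleton (Fin n) := Fin.subsingleton_iff_le_one.2 (by omega)
      infer_instance
    have hs' : Subsingleton (alternatingGroup (Fin n)) := inferInstance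
    have : Nat.card N ≤ 1 := by
      rw [Finite.card_le_one_iff_subsingleton]
      infer_instance
    exact this.trans Nat.card_pos

end Cfsg.Agent.H102.NilpAltCard
end
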